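import Mathlib
import Cfsg.Agent.Ward.Basic
import Cfsg.Agent.Coprime.ActionHom
import Cfsg.Agent.Coprime.Generation

/-!
Elementary abelian groups `A` of order `p ^ 2` acting without common fixed point: fixed-point
subgroups, generation, and the fact that fixed points of different lines multiply to zero in a
representation killed by the sum over `A`.
-/

set_option autoImplicit false

open Finset

namespace CfsgLib.Ward

universe u v w

variable {A : Type w} [Group A] {H : Type u} [Group H] (φ : A →* MulAut H)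

/-- The fixed-point subgroup of `φ a`. -/
def fixedBy (a : A) : Subgroup H := MonoidHom.eqLocus (φ a : H →* H) (MonoidHom.id H)

@[simp] theorem mem_fixedBy {a : A} {x : H} : x ∈ fixedBy φ a ↔ φ a x = x := Iff.rfl

/-- The stabiliser of an element. -/
def fixer (x : H) : Subgroup A where
  carrier := {a | φ a x = x}
  one_mem' := by simp
  mul_mem' := fun {a b} (ha : φ a x = x) (hb : φ b x = x) => by
    show φ (a * b) x = x
    rw [map_mul, MulAut.mul_apply, hb, ha]
  inv_mem' := fun {a} (ha : φ a x = x) => by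
    show φ a⁻¹ x = x
    conv_lhs => rw [← ha, ← MulAut.mul_apply, ← map_mul, inv_mul_cancel, map_one]
    rfl

theorem fixedBy_invariant (hA : ∀ a b : A, a * b = b * a) (a c : A) {x : H}
    (hx : x ∈ fixedBy φ a) : φ c x ∈ fixedBy φ a := by
  rw [mem_fixedBy] at hx ⊢
  rw [← MulAut.mul_apply, ← map_mul, hA, map_mul, MulAut.mul_apply, hx]

/-- Restriction of an action to an invariant subgroup. -/
def restr (K : Subgroup H) (hK : ∀ a, ∀ x ∈ K, φ a x ∈ K) : A →* MulAut K where
  toFun a :=
    { toFun := fun x => ⟨φ a x, hK a x x.2⟩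
      invFun := fun x => ⟨φ a⁻¹ x, hK a⁻¹ x x.2⟩
      left_inv := fun x => Subtype.ext (by simp)
      right_inv := fun x => Subtype.ext (by simp)
      map_mul' := fun x y => Subtype.ext (map_mul _ _ _) }
  map_one' := by ext x; simp
  map_mul' := fun a b => by ext x; simp [MulAut.mul_apply]

@[simp] theorem coe_restr (K : Subgroup H) (hK : ∀ a, ∀ x ∈ K, φ a x ∈ K) (a : A) (x : K) :
    (restr φ K hK a x : H) = φ a x := rfl

variable {p : ℕ} [hp : Fact p.Prime]

theorem exists_pow_pow_eq (hexp : ∀ a : A, a ^ p = 1) (b : A) {i : ℕ} (hi : i ∈ Finset.Ico 1 p) :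
    ∃ k : ℕ, (b ^ i) ^ k = b := by
  rw [mem_Ico] at hi
  have hco : i.Coprime p := ((hp.out.coprime_iff_not_dvd).2
    (Nat.not_dvd_of_pos_of_lt hi.1 hi.2)).symm
  obtain ⟨k, hk⟩ := Nat.exists_mul_mod_eq_one_of_coprime hco hp.out.one_lt
  exact ⟨k, by rw [← pow_mul, ← Nat.div_add_mod (i * k) p, pow_add, pow_mul, hexp, one_pow,
    one_mul, hk.2, pow_one]⟩

theorem mem_of_pow_mem (hexp : ∀ a : A, a ^ p = 1) {S : Subgroup A} {b : A} {i : ℕ}
    (hi : i ∈ Finset.Ico 1 p) (h : b ^ i ∈ S) : b ∈ S := by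
  obtain ⟨k, hk⟩ := exists_pow_pow_eq hexp b hi
  exact hk ▸ pow_mem h k

theorem orderOf_eq (hexp : ∀ a : A, a ^ p = 1) {a : A} (ha : a ≠ 1) : orderOf a = p :=
  orderOf_eq_prime (hexp a) ha

theorem zpowers_eq_of_mem (hexp : ∀ a : A, a ^ p = 1) {a c : A} (hc : c ∈ Subgroup.zpowers a)
    (hc1 : c ≠ 1) : Subgroup.zpowers c = Subgroup.zpowers a := by
  have ha : a ≠ 1 := by
    rintro rfl
    exact hc1 (by simpa using hc)
  haveI : Finite (Subgroup.zpowers a) := Nat.finite_of_card_ne_zero (by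
    rw [Nat.card_zpowers, orderOf_eq hexp ha]; exact hp.out.ne_zero)
  exact Subgroup.eq_of_le_of_card_ge (Subgroup.zpowers_le.2 hc)
    (by rw [Nat.card_zpowers, Nat.card_zpowers, orderOf_eq hexp ha, orderOf_eq hexp hc1])

theorem notMem_symm (hexp : ∀ a : A, a ^ p = 1) {a c : A} (ha : a ≠ 1)
    (hc : c ∉ Subgroup.zpowers a) : a ∉ Subgroup.zpowers c := fun h =>
  hc (zpowers_eq_of_mem hexp h ha ▸ Subgroup.mem_zpowers c)

theorem fixedBy_eq_of_mem (hexp : ∀ a : A, a ^ p = 1) {a c : A} (hc : c ∈ Subgroup.zpowers a)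
    (hc1 : c ≠ 1) : fixedBy φ c = fixedBy φ a := by
  ext x
  have h1 := zpowers_eq_of_mem hexp hc hc1
  simp only [mem_fixedBy]
  constructor
  · intro h
    exact (Subgroup.zpowers_le.2 (show c ∈ fixer φ x from h)) (h1 ▸ Subgroup.mem_zpowers a)
  · intro h
    exact (Subgroup.zpowers_le.2 (show a ∈ fixer φ x from h)) hc

/-- Two different lines generate `A`. -/
theorem bijective_pair (hA : ∀ a b : A, a * b = b * a) (hexp : ∀ a : A, a ^ p = 1)
    (hcard : Nat.card A = p ^ 2) {a b : A} (ha : a ≠ 1) (hb : b ∉ Subgroup.zpowers a) :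
    Function.Bijective (fun ij : Fin p × Fin p => b ^ (ij.1 : ℕ) * a ^ (ij.2 : ℕ)) := by
  have : Finite A := Nat.finite_of_card_ne_zero (by rw [hcard]; exact pow_ne_zero 2 hp.out.ne_zero)
  cases nonempty_fintype A
  rw [Fintype.bijective_iff_injective_and_card]
  refine ⟨?_, by rw [Fintype.card_prod, Fintype.card_fin, ← Nat.card_eq_fintype_card, hcard,
    pow_two]⟩
  have hb1 : b ≠ 1 := fun h => hb (h ▸ one_mem _)
  rintro ⟨i, j⟩ ⟨i', j'⟩ h
  simp only at h
  wlog hle : (i' : ℕ) ≤ i generalizing i j i' j'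
  · exact (this i' j' i j h.symm (le_of_not_ge hle)).symm
  have hii : (i : ℕ) = i' := by
    by_contra hne
    have h1 : b ^ ((i : ℕ) - i') * a ^ (j : ℕ) = a ^ (j' : ℕ) := by
      apply mul_left_cancel (a := b ^ (i' : ℕ))
      rw [← mul_assoc, ← pow_add, Nat.add_sub_cancel' hle, h]
    have h2 : b ^ ((i : ℕ) - i') ∈ Subgroup.zpowers a := by
      rw [eq_mul_inv_of_mul_eq h1]
      exact mul_mem (pow_mem (Subgroup.mem_zpowers a) _)
        (inv_mem (pow_mem (Subgroup.mem_zpowers a) _))
    exact hb (mem_of_pow_mem hexp (mem_Ico.2 ⟨by omega, by omega⟩) h2)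
  have hj : (j : ℕ) = j' := by
    rw [hii] at h
    exact pow_injOn_Iio_orderOf (by rw [orderOf_eq hexp ha]; exact j.2)
      (by rw [orderOf_eq hexp ha]; exact j'.2) (mul_left_cancel h)
  exact Prod.ext (Fin.ext hii) (Fin.ext hj)

theorem exists_eq_pow_mul (hA : ∀ a b : A, a * b = b * a) (hexp : ∀ a : A, a ^ p = 1)
    (hcard : Nat.card A = p ^ 2) {a b : A} (ha : a ≠ 1) (hb : b ∉ Subgroup.zpowers a) (c : A) :
    ∃ i j : ℕ, i < p ∧ j < p ∧ b ^ i * a ^ j = c := by
  obtain ⟨⟨i, j⟩, hij⟩ := (bijective_pair hA hexp hcard ha hb).2 c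
  exact ⟨i, j, i.2, j.2, hij⟩

theorem eq_one_of_fixed (hA : ∀ a b : A, a * b = b * a) (hexp : ∀ a : A, a ^ p = 1)
    (hcard : Nat.card A = p ^ 2) (hfpf : ∀ x : H, (∀ a, φ a x = x) → x = 1) {a b : A} (ha : a ≠ 1)
    (hb : b ∉ Subgroup.zpowers a) {x : H} (hax : φ a x = x) (hbx : φ b x = x) : x = 1 := by
  refine hfpf x fun c => ?_
  obtain ⟨i, j, -, -, rfl⟩ := exists_eq_pow_mul hA hexp hcard ha hb c
  exact (fixer φ x).mul_mem (pow_mem hbx i) (pow_mem hax j)

theorem not_isCyclic (hexp : ∀ a : A, a ^ p = 1) (hcard : Nat.card A = p ^ 2) : ¬ IsCyclic A := by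
  intro h
  obtain ⟨g, hg⟩ := h.exists_generator
  have h1 : Subgroup.zpowers g = ⊤ := eq_top_iff.2 fun x _ => hg x
  have h2 := orderOf_dvd_of_pow_eq_one (hexp g)
  rw [← Nat.card_zpowers, h1, Subgroup.card_top, hcard] at h2
  have := Nat.le_of_dvd hp.out.pos h2
  nlinarith [hp.out.two_le]

/-- A group with such an action has order prime to `p`. -/
theorem coprime_card [Finite H] (hcard : Nat.card A = p ^ 2)
    (hfpf : ∀ x : H, (∀ a, φ a x = x) → x = 1) : (Nat.card A).Coprime (Nat.card H) := by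
  rw [hcard]
  refine Nat.Coprime.pow_left _ ((hp.out.coprime_iff_not_dvd).2 fun hdvd => ?_)
  letI : MulAction A H := MulAction.compHom H φ
  have hP : IsPGroup p A := IsPGroup.of_card hcard
  have hone : (1 : H) ∈ MulAction.fixedPoints A H := fun a => map_one (φ a)
  obtain ⟨x, hx, hx1⟩ := hP.exists_fixed_point_of_prime_dvd_card_of_fixed_point H hdvd hone
  exact hx1 (hfpf x hx).symm

/-- An invariant subgroup is generated by fixed points of nontrivial elements of `A`. -/
theorem le_of_fixed [Finite H] [Finite A] (hA : ∀ a b : A, a * b = b * a) (hnc : ¬ IsCyclic A)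
    (hcop : (Nat.card A).Coprime (Nat.card H)) {L W : Subgroup H}
    (hL : ∀ a, ∀ x ∈ L, φ a x ∈ L) (h : ∀ a, a ≠ 1 → ∀ x ∈ L, φ a x = x → x ∈ W) : L ≤ W := by
  have := CfsgLib.Coprime.finite_semidirectProduct φ
  haveI : IsMulCommutative (SemidirectProduct.inr : A →* H ⋊[φ] A).range :=
    ⟨⟨by rintro ⟨_, a, rfl⟩ ⟨_, b, rfl⟩; exact Subtype.ext (by simp [← map_mul, hA])⟩⟩
  have key := CfsgLib.Coprime.le_of_forall_inf_centralizer_le
    (G := L.map (SemidirectProduct.inl : H →* H ⋊[φ] A))
    (A := (SemidirectProduct.inr : A →* H ⋊[φ] A).range)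
    (W := W.map SemidirectProduct.inl)
    (fun hc => hnc (isCyclic_of_surjective _
      (MonoidHom.ofInjective (f := (SemidirectProduct.inr : A →* H ⋊[φ] A))
        SemidirectProduct.inr_injective).symm.surjective))
    (by
      rw [Subgroup.le_normalizer_iff]
      rintro _ ⟨a, rfl⟩ _ ⟨x, hx, rfl⟩
      exact ⟨φ a x, hL a x hx, by rw [SemidirectProduct.inl_aut]; simp⟩)
    (by
      rw [CfsgLib.Coprime.card_range_inr,
        Subgroup.card_map_of_injective SemidirectProduct.inl_injective]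
      exact hcop.coprime_dvd_right (Subgroup.card_subgroup_dvd_card L))
    (by
      rintro _ ⟨a, rfl⟩ ha y ⟨⟨x, hx, rfl⟩, hy⟩
      refine ⟨x, h a (fun h1 => ha (by rw [h1, map_one])) x hx ?_, rfl⟩
      apply SemidirectProduct.inl_injective (φ := φ)
      have h2 := Subgroup.mem_centralizer_iff.1 hy _ rfl
      rw [SemidirectProduct.inl_aut, h2, map_inv, mul_inv_cancel_right])
  intro x hx
  obtain ⟨y, hy, hyx⟩ := key ⟨x, hx, rfl⟩
  exact SemidirectProduct.inl_injective hyx ▸ hy

variable {R : Type v} [Ring R]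

theorem eq_sum_mul_sum [Fintype A] (hA : ∀ a b : A, a * b = b * a) (hexp : ∀ a : A, a ^ p = 1)
    (hcard : Nat.card A = p ^ 2) (ρ : A →* R) {a b : A} (ha : a ≠ 1)
    (hb : b ∉ Subgroup.zpowers a) :
    ∑ c : A, ρ c = (∑ i ∈ range p, ρ b ^ i) * ∑ j ∈ range p, ρ a ^ j := by
  rw [← (bijective_pair hA hexp hcard ha hb).sum_comp fun c => ρ c, Fintype.sum_prod_type,
    ← Fin.sum_univ_eq_sum_range, ← Fin.sum_univ_eq_sum_range, Finset.sum_mul]
  refine Finset.sum_congr rfl fun i _ => ?_
  rw [Finset.mul_sum]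
  simp [map_mul, map_pow]

/-- Fixed points of different lines multiply to zero. -/
theorem pair_eq_zero {r : ℕ} [Fintype A] (hA : ∀ a b : A, a * b = b * a)
    (hexp : ∀ a : A, a ^ p = 1) (hcard : Nat.card A = p ^ 2) (hr : (r : R) = 0) (ρ : A →* R)
    (hsum : ∑ a, ρ a = 0) : ∀ (n : ℕ) {Q : Type u} [Group Q] [Finite Q], Nat.card Q ≤ n →
    Group.IsNilpotent Q → (Nat.card Q).Coprime r → ∀ φ : A →* MulAut Q,
    (∀ x, (∀ a, φ a x = x) → x = 1) → ∀ ψ : Q →* R, (∀ a q, ρ a * ψ q = ψ (φ a q) * ρ a) →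
    ∀ b b' : A, b ≠ 1 → b' ∉ Subgroup.zpowers b → ∀ x y : Q, φ b x = x → φ b' y = y →
    (ψ x - 1) * (ψ y - 1) = 0 := by
  intro n
  induction n with
  | zero => intro Q _ _ hc; exact absurd hc (Nat.not_le.2 Nat.card_pos)
  | succ n ih =>
    intro Q _ _ hc hnil hcop φ hfpf ψ hcompat b b' hb hb' x y hx hy
    rcases subsingleton_or_nontrivial Q with hQ | hQ
    · rw [Subsingleton.elim x 1, map_one, sub_self, zero_mul]
    haveI := hnil
    -- elimination kills `ψ x - 1` against the orbit sum of `b`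
    have step1 : ∀ c c' : A, c ≠ 1 → c' ∉ Subgroup.zpowers c → ∀ u : Q, φ c u = u →
        ψ u * (∑ i ∈ range p, ρ c ^ i) = ∑ i ∈ range p, ρ c ^ i := by
      intro c c' hc1 hc' u hu
      have hK : ∀ a, ∀ k ∈ fixedBy φ c, φ a k ∈ fixedBy φ c :=
        fun a k hk => fixedBy_invariant φ hA c a hk
      refine fix_of_sum (K := fixedBy φ c) hp.out.pos hr _ le_rfl inferInstance
        (hcop.coprime_dvd_left (Subgroup.card_subgroup_dvd_card _)) (restr φ _ hK c') ?_
        (ρ c') _ (ψ.comp (fixedBy φ c).subtype) (fun k => hcompat c' k)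
        (by rw [← eq_sum_mul_sum hA hexp hcard ρ hc1 hc', hsum]) ?_ ⟨u, hu⟩
      · intro i hi k hk
        rw [← map_pow] at hk
        exact Subtype.ext (eq_one_of_fixed φ hA hexp hcard hfpf hc1 hc' k.2
          (mem_of_pow_mem hexp (S := fixer φ (k : Q)) hi (congrArg Subtype.val hk)))
      · intro k
        refine Commute.sum_left _ _ _ fun i _ => ?_
        have : φ (c ^ i) k = k := (fixer φ (k : Q)).pow_mem k.2 i
        rw [Commute, SemiconjBy, ← map_pow, MonoidHom.comp_apply, Subgroup.coe_subtype, hcompat,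
          this]
    -- central fixed points of another line
    have step2 : ∀ c c' : A, c ≠ 1 → c' ∉ Subgroup.zpowers c → ∀ u z : Q, φ c u = u →
        z ∈ Subgroup.center Q → φ c' z = z → (ψ u - 1) * (ψ z - 1) = 0 := by
      intro c c' hc1 hc' u z hu hz hzc
      have hcomm : ∀ k ∈ Subgroup.center Q, Commute (ψ u - 1) (ψ k) := fun k hk =>
        Commute.sub_left (by rw [Commute, SemiconjBy, ← map_mul, ← map_mul,
          Subgroup.mem_center_iff.1 hk u]) (Commute.one_left _)
      have hins : range p = insert 0 (Finset.Ico 1 p) := by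
        ext i; simp only [mem_range, mem_insert, mem_Ico]; have := hp.out.pos; omega
      have h := elim_eq_zero hr ψ (Subgroup.center Q ⊓ fixedBy φ c')
        (fun a ha k _ => (Subgroup.mem_center_iff.1 ha.1 k).symm)
        (hcop.coprime_dvd_left (Subgroup.card_subgroup_dvd_card _))
        (fun i : ℕ => φ (c ^ i))
        (fun i a ha => Subgroup.mem_inf.2 ⟨Subgroup.mem_center_iff.2 fun g => by
          obtain ⟨g', rfl⟩ := (φ (c ^ i)).surjective g
          rw [← map_mul, ← map_mul, Subgroup.mem_center_iff.1 ha.1 g'],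
          fixedBy_invariant φ hA _ _ ha.2⟩)
        (fun i => ρ c ^ i) 0 (fun a _ => by simp) (Finset.Ico 1 p) (by simp)
        (fun j hj a ha he => eq_one_of_fixed φ hA hexp hcard hfpf hc1 hc'
          (mem_of_pow_mem hexp (S := fixer φ a) hj he) ha.2)
        (fun _ => ψ u - 1) (fun _ _ k hk => hcomm k hk.1)
        (fun k _ => by
          rw [← hins]
          calc ∑ i ∈ range p, (ψ u - 1) * ψ (φ (c ^ i) k) * ρ c ^ i
              = (ψ u - 1) * (∑ i ∈ range p, ρ c ^ i) * ψ k := by
                rw [Finset.mul_sum, Finset.sum_mul]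
                refine Finset.sum_congr rfl fun i _ => ?_
                rw [← map_pow, mul_assoc, ← hcompat, mul_assoc]
            _ = 0 := by rw [sub_mul, one_mul, step1 c c' hc1 hc' u hu, sub_self, zero_mul])
        (w := z) ⟨hz, hzc⟩
      rw [pow_zero, mul_one] at h
      rw [← h]
      exact ((hcomm z hz).sub_right (Commute.one_right _)).eq
    set Z := Subgroup.center Q with hZ
    have hZinv : ∀ a, ∀ k ∈ Z, φ a k ∈ Z := fun a k hk => by
      rw [hZ, Subgroup.mem_center_iff] at hk ⊢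
      intro g
      obtain ⟨g', rfl⟩ := (φ a).surjective g
      rw [← map_mul, ← map_mul, hk g']
    have hcopA := coprime_card φ hcard hfpf
    set d := (ψ x - 1) * (ψ y - 1) with hd
    -- the centre fixes `d`
    have hzd : ∀ z ∈ Z, ψ z * d = d := by
      let W : Subgroup Q :=
        { carrier := {q | ψ q * d = d}
          one_mem' := by simp
          mul_mem' := fun {a k} (ha : ψ a * d = d) (hk : ψ k * d = d) => by
            show ψ (a * k) * d = d
            rw [map_mul, mul_assoc, hk, ha]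
          inv_mem' := fun {a} (ha : ψ a * d = d) => by
            show ψ a⁻¹ * d = d
            conv_lhs => rw [← ha, ← mul_assoc, ← map_mul, inv_mul_cancel, map_one, one_mul] }
      suffices Z ≤ W from this
      refine le_of_fixed φ hA (not_isCyclic hexp hcard) hcopA hZinv fun a ha z hz haz => ?_
      show ψ z * d = d
      have hcz : ∀ q : Q, Commute (ψ q - 1) (ψ z - 1) := fun q => by
        have : Commute (ψ q) (ψ z) := by
          rw [Commute, SemiconjBy, ← map_mul, ← map_mul, Subgroup.mem_center_iff.1 hz q]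
        exact (this.sub_left (Commute.one_left _)).sub_right (Commute.one_right _)
      suffices d * (ψ z - 1) = 0 by
        rw [hd, ((hcz x).mul_left (hcz y)).eq, ← hd, sub_mul, one_mul, sub_eq_zero] at this
        exact this
      by_cases hab : a ∈ Subgroup.zpowers b
      · have hbz : φ b z = z := by
          rw [← mem_fixedBy, ← fixedBy_eq_of_mem φ hexp hab ha]
          exact haz
        have hb'1 : b' ≠ 1 := fun h => hb' (h ▸ one_mem _)
        rw [hd, mul_assoc, step2 b' b hb'1 (notMem_symm hexp hb hb') y z hy hz hbz, mul_zero]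
      · rw [hd, mul_assoc, (hcz y).eq, ← mul_assoc, step2 b a hb hab x z hx hz haz, zero_mul]
    obtain ⟨e, ψ', hek, hψ', hes, heM, -⟩ := exists_quotient_rep hr ψ Z
      (hcop.coprime_dvd_left (Subgroup.card_subgroup_dvd_card Z))
    obtain ⟨φ', hφ'⟩ := exists_quotient_action φ Z hZinv
    have hlt : Nat.card (Q ⧸ Z) < Nat.card Q := by
      haveI : Nontrivial Z :=
        (Subgroup.nontrivial_iff_ne_bot Z).2 (Group.IsNilpotent.center_ne_bot Q)
      have h1 := Subgroup.card_eq_card_quotient_mul_card_subgroup Z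
      have h2 : 1 < Nat.card Z := Finite.one_lt_card
      have h3 : 0 < Nat.card (Q ⧸ Z) := Nat.card_pos
      nlinarith
    have hfpf' : ∀ q : Q ⧸ Z, (∀ a, φ' a q = q) → q = 1 := by
      intro q
      induction q using QuotientGroup.induction_on with
      | H k =>
        intro hk
        obtain ⟨c, hc, hkc⟩ := CfsgLib.Coprime.exists_fixed_mem_coset_hom φ (N := Z) hZinv
          (hcopA.coprime_dvd_right (Subgroup.card_subgroup_dvd_card Z))
          (Or.inl (Group.isSolvable_of_comm hA)) (k := k) (fun a => by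
            rw [← QuotientGroup.eq, ← hφ', hk a])
        rw [hfpf c hc, mul_one] at hkc
        rw [QuotientGroup.eq_one_iff]
        simpa using inv_mem hkc
    have hce : ∀ a, Commute (ρ a) e := fun a =>
      hes (ρ a) (φ a) (hcompat a) (φ a).injective (hZinv a)
    have h := ih (Q := Q ⧸ Z) (by omega) inferInstance
      (hcop.coprime_dvd_left (Subgroup.card_quotient_dvd_card Z)) φ' hfpf' ψ'
      (fun a q => by
        induction q using QuotientGroup.induction_on with
        | H k =>
          rw [hφ', hψ', hψ', mul_add, add_mul, ← mul_assoc, (hce a).eq, mul_assoc, hcompat,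
            ← mul_assoc, ((Commute.one_right (ρ a)).sub_right (hce a)).eq])
      b b' hb hb' (x : Q ⧸ Z) (y : Q ⧸ Z) (by rw [hφ', hx]) (by rw [hφ', hy])
    rw [hψ', hψ'] at h
    have he2 : e * e = e := heM e fun z hz => by
      have h1 := hψ' z
      rw [(QuotientGroup.eq_one_iff z).2 hz, map_one] at h1
      have h2 : e * ψ z = e := by
        have h3 : e * ψ z + (1 - e) = e + (1 - e) := by rw [← h1, add_sub_cancel]
        exact add_right_cancel h3
      rw [← (hek z).eq, h2]
    have h' : e * d = 0 := by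
      have e1 : ∀ k, e * ψ k + (1 - e) - 1 = e * (ψ k - 1) := fun k => by
        rw [mul_sub, mul_one]; abel
      rw [e1, e1, mul_assoc, ← mul_assoc (ψ x - 1),
        ← (((hek x).sub_right (Commute.one_right e))).eq, mul_assoc, ← mul_assoc e e, he2] at h
      exact h
    rw [heM d hzd] at h'
    exact h'

end CfsgLib.Ward
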