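import Mathlib
import Cfsg.Agent.Ward.Pairs
import Cfsg.Agent.OddOrder.BG3.KernelNilpotent

/-!
The fixed points of a nontrivial element of `A` form a nilpotent group.
-/

set_option autoImplicit false

namespace CfsgLib.Ward

universe u w

variable {A : Type w} [Group A] {H : Type u} [Group H] (φ : A →* MulAut H)
variable {p : ℕ} [hp : Fact p.Prime]

theorem isNilpotent_fixedBy [Finite H] [Finite A] (hA : ∀ a b : A, a * b = b * a)
    (hexp : ∀ a : A, a ^ p = 1) (hcard : Nat.card A = p ^ 2)
    (hfpf : ∀ x : H, (∀ a, φ a x = x) → x = 1) (hsolv : Group.IsSolvable H) {a : A} (ha : a ≠ 1) :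
    Group.IsNilpotent (fixedBy φ a) := by
  have := CfsgLib.Coprime.finite_semidirectProduct φ
  obtain ⟨b, hb⟩ : ∃ b, b ∉ Subgroup.zpowers a := by
    by_contra h
    push Not at h
    exact not_isCyclic hexp hcard ⟨⟨a, h⟩⟩
  let inlH : H →* H ⋊[φ] A := SemidirectProduct.inl
  let inrA : A →* H ⋊[φ] A := SemidirectProduct.inr
  have hinl : Function.Injective inlH := SemidirectProduct.inl_injective
  have hK := CfsgLib.OddOrder.isNilpotent_of_prime_fpf
    (K := (fixedBy φ a).map inlH) (R := (Subgroup.zpowers b).map inrA) ?_ ?_ ?_ ?_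
  · haveI := hK
    exact Group.nilpotent_of_mulEquiv
      ((fixedBy φ a).equivMapOfInjective inlH hinl).symm
  · haveI := hsolv
    exact Group.isSolvable_of_surjective
      (f := ((fixedBy φ a).equivMapOfInjective inlH hinl).toMonoidHom) (MulEquiv.surjective _)
  · rw [Subgroup.le_normalizer_iff]
    rintro _ ⟨c, -, rfl⟩ _ ⟨x, hx, rfl⟩
    exact ⟨φ c x, fixedBy_invariant φ hA a c hx, by
      show SemidirectProduct.inl (φ c x) = _
      rw [SemidirectProduct.inl_aut]; simp [inlH, inrA]⟩
  · rw [Subgroup.card_map_of_injective SemidirectProduct.inr_injective, Nat.card_zpowers,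
      orderOf_eq hexp (show b ≠ 1 by rintro rfl; exact hb (one_mem _))]
    exact hp.out
  · rw [eq_bot_iff]
    rintro _ ⟨⟨x, hx, rfl⟩, hy⟩
    have h2 := Subgroup.mem_centralizer_iff.1 hy _ ⟨b, Subgroup.mem_zpowers b, rfl⟩
    have h3 : φ b x = x := by
      apply hinl
      show SemidirectProduct.inl (φ b x) = SemidirectProduct.inl x
      rw [SemidirectProduct.inl_aut, map_inv]
      simp only [inlH, inrA] at h2
      rw [h2, mul_inv_cancel_right]
    rw [Subgroup.mem_bot, eq_one_of_fixed φ hA hexp hcard hfpf ha hb hx h3, map_one]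

end CfsgLib.Ward
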