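import Mathlib
import Cfsg.Agent.Ward.FixedNilpotent
import Cfsg.Agent.NilpotentCover.Basic

/-!
The key step of Ward's theorem: in a faithful representation killed by the orbit sum of `A`,
an invariant subgroup fixed by some nontrivial element of `A` centralises every invariant
nilpotent subgroup it normalises, when the orders are coprime.
-/

set_option autoImplicit false

open Finset

namespace CfsgLib.Ward

universe u v w

/-- A faithful representation of a group with a fixed-point-free action of `A`. -/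
structure Setup (p r : ℕ) (A : Type w) (H : Type u) (R : Type v) [Group A] [Fintype A] [Group H]
    [Finite H] [Ring R] where
  φ : A →* MulAut H
  ρ : A →* R
  ψ : H →* R
  comm : ∀ a b : A, a * b = b * a
  exp : ∀ a : A, a ^ p = 1
  card : Nat.card A = p ^ 2
  fpf : ∀ x : H, (∀ a, φ a x = x) → x = 1
  char : (r : R) = 0
  solv : Group.IsSolvable H
  inj : Function.Injective ψ
  compat : ∀ a h, ρ a * ψ h = ψ (φ a h) * ρ a
  sum : ∑ a, ρ a = 0

namespace Setup

variable {p r : ℕ} [hp : Fact p.Prime] {A : Type w} {H : Type u} {R : Type v} [Group A]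
  [Fintype A] [Group H] [Finite H] [Ring R] (S : Setup p r A H R)

/-- The part of `Q` outside the line of `b`. -/
def rest (Q : Subgroup H) (b : A) : Subgroup H :=
  Subgroup.closure {x | x ∈ Q ∧ ∃ c, c ∉ Subgroup.zpowers b ∧ S.φ c x = x}

theorem rest_le (Q : Subgroup H) (b : A) : S.rest Q b ≤ Q :=
  (Subgroup.closure_le Q).2 fun _ hx => hx.1

theorem mem_rest {Q : Subgroup H} {b c : A} (hc : c ∉ Subgroup.zpowers b) {x : H} (hx : x ∈ Q)
    (hcx : S.φ c x = x) : x ∈ S.rest Q b := Subgroup.subset_closure ⟨hx, c, hc, hcx⟩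

theorem rest_invariant {Q : Subgroup H} (hQi : ∀ a, ∀ x ∈ Q, S.φ a x ∈ Q) (b a : A) {x : H}
    (hx : x ∈ S.rest Q b) : S.φ a x ∈ S.rest Q b := by
  refine (show S.rest Q b ≤ (S.rest Q b).comap (S.φ a : H →* H) from
    (Subgroup.closure_le _).2 ?_) hx
  rintro y ⟨hy, c, hc, hcy⟩
  exact S.mem_rest hc (hQi a y hy) (fixedBy_invariant S.φ S.comm c a hcy)

variable {Q : Subgroup H} (hQi : ∀ a, ∀ x ∈ Q, S.φ a x ∈ Q) (hQn : Group.IsNilpotent Q)
  (hQr : (Nat.card Q).Coprime r)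

include hQi hQn hQr

theorem pair {b c : A} (hb : b ≠ 1) (hc : c ∉ Subgroup.zpowers b) {x y : H} (hx : x ∈ Q)
    (hy : y ∈ Q) (hbx : S.φ b x = x) (hcy : S.φ c y = y) :
    (S.ψ x - 1) * (S.ψ y - 1) = 0 :=
  pair_eq_zero (Q := Q) S.comm S.exp S.card S.char S.ρ S.sum _ le_rfl hQn hQr
    (restr S.φ Q hQi) (fun z hz => Subtype.ext (S.fpf _ fun a => congrArg Subtype.val (hz a)))
    (S.ψ.comp Q.subtype) (fun a q => S.compat a q) b c hb hc ⟨x, hx⟩ ⟨y, hy⟩
    (Subtype.ext hbx) (Subtype.ext hcy)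

/-- Elements outside the line of `b` fix the differences attached to that line. -/
theorem absorb {b : A} (hb : b ≠ 1) {x l : H} (hx : x ∈ Q) (hbx : S.φ b x = x)
    (hl : l ∈ S.rest Q b) :
    (S.ψ x - 1) * S.ψ l = S.ψ x - 1 ∧ S.ψ l * (S.ψ x - 1) = S.ψ x - 1 := by
  let W : Subgroup H :=
    { carrier := {l | (S.ψ x - 1) * S.ψ l = S.ψ x - 1 ∧ S.ψ l * (S.ψ x - 1) = S.ψ x - 1}
      one_mem' := by simp
      mul_mem' := fun {a c} (ha : _ ∧ _) (hc : _ ∧ _) =>
        ⟨by rw [map_mul, ← mul_assoc, ha.1, hc.1], by rw [map_mul, mul_assoc, hc.2, ha.2]⟩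
      inv_mem' := fun {a} (ha : _ ∧ _) =>
        ⟨by conv_lhs => rw [← ha.1, mul_assoc, ← map_mul, mul_inv_cancel, map_one, mul_one],
          by conv_lhs => rw [← ha.2, ← mul_assoc, ← map_mul, inv_mul_cancel, map_one, one_mul]⟩ }
  refine (show S.rest Q b ≤ W from (Subgroup.closure_le W).2 ?_) hl
  rintro y ⟨hy, c, hc, hcy⟩
  have hc1 : c ≠ 1 := fun h => hc (h ▸ one_mem _)
  have h1 := S.pair hQi hQn hQr hb hc hx hy hbx hcy
  have h2 := S.pair hQi hQn hQr hc1 (notMem_symm S.exp hb hc) hy hx hcy hbx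
  constructor
  · rwa [mul_sub, mul_one, sub_eq_zero] at h1
  · rwa [sub_mul, one_mul, sub_eq_zero] at h2

theorem comm_rest {b : A} (hb : b ≠ 1) {x l : H} (hx : x ∈ Q) (hbx : S.φ b x = x)
    (hl : l ∈ S.rest Q b) : x * l = l * x := by
  obtain ⟨h1, h2⟩ := S.absorb hQi hQn hQr hb hx hbx hl
  rw [sub_mul, one_mul] at h1
  rw [mul_sub, mul_one] at h2
  apply S.inj
  rw [map_mul, map_mul, eq_add_of_sub_eq h1, eq_add_of_sub_eq h2]

/-- Decomposition of an invariant subgroup along the line of `b`. -/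
theorem decompose {N : Subgroup H} (hNQ : N ≤ Q) (hNi : ∀ a, ∀ x ∈ N, S.φ a x ∈ N) {b : A}
    (hb : b ≠ 1) {x : H} (hx : x ∈ N ⊔ S.rest Q b) :
    ∃ e ∈ N, S.φ b e = e ∧ ∃ l ∈ S.rest Q b, e * l = x := by
  let W : Subgroup H :=
    { carrier := {x | ∃ e ∈ N, S.φ b e = e ∧ ∃ l ∈ S.rest Q b, e * l = x}
      one_mem' := ⟨1, one_mem _, map_one _, 1, one_mem _, mul_one 1⟩
      mul_mem' := by
        rintro _ _ ⟨e, he, heb, l, hl, rfl⟩ ⟨e', he', heb', l', hl', rfl⟩
        refine ⟨e * e', mul_mem he he', by rw [map_mul, heb, heb'], l * l', mul_mem hl hl', ?_⟩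
        calc e * e' * (l * l') = e * (e' * l) * l' := by group
          _ = e * (l * e') * l' := by rw [S.comm_rest hQi hQn hQr hb (hNQ he') heb' hl]
          _ = e * l * (e' * l') := by group
      inv_mem' := by
        rintro _ ⟨e, he, heb, l, hl, rfl⟩
        refine ⟨e⁻¹, inv_mem he, by rw [map_inv, heb], l⁻¹, inv_mem hl, ?_⟩
        rw [mul_inv_rev]
        exact S.comm_rest hQi hQn hQr hb (inv_mem (hNQ he)) (by rw [map_inv, heb]) (inv_mem hl) }
  refine (sup_le ?_ ?_ : N ⊔ S.rest Q b ≤ W) hx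
  · refine le_of_fixed S.φ S.comm (not_isCyclic S.exp S.card)
      (coprime_card S.φ S.card S.fpf) hNi fun c hc y hy hcy => ?_
    by_cases hcb : c ∈ Subgroup.zpowers b
    · refine ⟨y, hy, ?_, 1, one_mem _, mul_one y⟩
      rw [← mem_fixedBy, ← fixedBy_eq_of_mem S.φ S.exp hcb hc]
      exact hcy
    · exact ⟨1, one_mem _, map_one _, y, S.mem_rest hcb (hNQ hy) hcy, one_mul y⟩
  · exact fun y hy => ⟨1, one_mem _, map_one _, y, hy, one_mul y⟩

theorem decompose_self {b : A} (hb : b ≠ 1) {x : H} (hx : x ∈ Q) :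
    ∃ e ∈ Q, S.φ b e = e ∧ ∃ l ∈ S.rest Q b, e * l = x :=
  S.decompose hQi hQn hQr le_rfl hQi hb (Subgroup.mem_sup_left hx)

/-- `(ψ f - 1) (ψ x - 1)` only depends on the component of `x` on the line of `f`. -/
theorem pair_component {b : A} (hb : b ≠ 1) {f e l : H} (hf : f ∈ Q) (hbf : S.φ b f = f)
    (he : e ∈ Q) (hbe : S.φ b e = e) (hl : l ∈ S.rest Q b) :
    (S.ψ f - 1) * (S.ψ (e * l) - 1) = (S.ψ f - 1) * (S.ψ e - 1) := by
  rw [S.comm_rest hQi hQn hQr hb he hbe hl, map_mul, mul_sub, mul_sub, ← mul_assoc,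
    (S.absorb hQi hQn hQr hb hf hbf hl).1]

omit hQn hQr

/-- The component condition. -/
def Claim (S : Setup p r A H R) (Q T N : Subgroup H) (a : A) : Prop :=
  ∀ x ∈ T, ∀ b c : A, b ∉ Subgroup.zpowers a → c ∉ Subgroup.zpowers a → c ∉ Subgroup.zpowers b →
    ∀ d ∈ Q, S.φ b d = d → ∀ e ∈ Q, S.φ c e = e → ∀ l ∈ S.rest Q c, e * l = x * d * x⁻¹ → e ∈ N

include hQn hQr

variable {T : Subgroup H} (hTi : ∀ a, ∀ x ∈ T, S.φ a x ∈ T) {a : A} (ha : a ≠ 1)
  (hTa : ∀ x ∈ T, S.φ a x = x) (hTQ : ∀ x ∈ T, ∀ y ∈ Q, x * y * x⁻¹ ∈ Q)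
  (hTc : (Nat.card T).Coprime (Nat.card Q))

include hTi ha hTa hTQ hTc

/-- Fixed points of the same element of `A` of coprime orders commute. -/
theorem commute_fixed {x y : H} (hx : x ∈ T) (hy : y ∈ Q) (hay : S.φ a y = y) : Commute x y :=
  CfsgLib.NilpotentCover.commute_of_coprime_mem
    (isNilpotent_fixedBy S.φ S.comm S.exp S.card S.fpf S.solv ha) (hTa x hx) hay
    (Nat.Coprime.coprime_dvd_left (Subgroup.orderOf_dvd_natCard T hx)
      (Nat.Coprime.coprime_dvd_right (Subgroup.orderOf_dvd_natCard Q hy) hTc))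

/-- Once the components lie in a centralised normal subgroup, `T` centralises `Q`. -/
theorem finish {N : Subgroup H} (hNQ : N ≤ Q) (hNi : ∀ c, ∀ x ∈ N, S.φ c x ∈ N)
    (hNn : ∀ g ∈ Q, ∀ n ∈ N, g * n * g⁻¹ ∈ N) (hNT : ∀ n ∈ N, ∀ x ∈ T, x * n = n * x)
    (hNa : ∀ y ∈ Q, S.φ a y = y → y ∈ N) (hclaim : S.Claim Q T N a) :
    T ≤ Subgroup.centralizer (Q : Set H) := by
  classical
  -- the images of fixed points stay in the same line modulo `N`
  have hmem : ∀ x ∈ T, ∀ b, b ∉ Subgroup.zpowers a → ∀ d ∈ Q, S.φ b d = d →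
      (x * d * x⁻¹)⁻¹ * S.φ b (x * d * x⁻¹) ∈ N := by
    intro x hx b hb d hd hbd
    have hb1 : b ≠ 1 := fun h => hb (h ▸ one_mem _)
    set y := x * d * x⁻¹ with hy
    have hyQ : y ∈ Q := hTQ x hx d hd
    let gens : Finset A → Set H := fun s =>
      {z | z ∈ Q ∧ S.φ b z = z} ∪ N ∪ {z | z ∈ Q ∧ ∃ c ∈ s, S.φ c z = z}
    have hred : ∀ s : Finset A, (∀ c ∈ s, c ∉ Subgroup.zpowers a ∧ c ∉ Subgroup.zpowers b) →
        y ∈ Subgroup.closure (gens s) → y ∈ Subgroup.closure (gens ∅) := by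
      intro s
      induction s using Finset.induction with
      | empty => exact fun _ h => h
      | @insert c s hcs ih =>
        intro hs hys
        refine ih (fun d hd => hs d (Finset.mem_insert_of_mem hd)) ?_
        obtain ⟨hca, hcb⟩ := hs c (Finset.mem_insert_self c s)
        have hc1 : c ≠ 1 := fun h => hca (h ▸ one_mem _)
        by_cases hline : ∃ d ∈ s, d ∈ Subgroup.zpowers c
        · obtain ⟨d', hd', hdc⟩ := hline
          have hd1 : d' ≠ 1 := fun h => (hs d' (Finset.mem_insert_of_mem hd')).1 (h ▸ one_mem _)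
          refine Subgroup.closure_mono ?_ hys
          rintro z (hz | ⟨hzQ, k, hk, hkz⟩)
          · exact Or.inl hz
          · rcases Finset.mem_insert.1 hk with rfl | hk
            · exact Or.inr ⟨hzQ, d', hd', by
                rw [← mem_fixedBy, fixedBy_eq_of_mem S.φ S.exp hdc hd1]; exact hkz⟩
            · exact Or.inr ⟨hzQ, k, hk, hkz⟩
        push Not at hline
        set W := Subgroup.closure (gens s) with hW
        set F := Q ⊓ fixedBy S.φ c with hF
        have hFW : F ≤ Subgroup.normalizer (W : Set H) := by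
          rw [Subgroup.le_normalizer_iff]
          intro g hg z hz
          refine (show W ≤ W.comap (MulAut.conj g : H →* H) from
            (Subgroup.closure_le _).2 ?_) hz
          intro z hz
          show g * z * g⁻¹ ∈ W
          rcases hz with (⟨hzQ, hzb⟩ | hzN) | ⟨hzQ, k, hk, hkz⟩
          · rw [S.comm_rest hQi hQn hQr hc1 hg.1 hg.2
              (S.mem_rest (notMem_symm S.exp hb1 hcb) hzQ hzb), mul_inv_cancel_right]
            exact Subgroup.subset_closure (Or.inl (Or.inl ⟨hzQ, hzb⟩))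
          · exact Subgroup.subset_closure (Or.inl (Or.inr (hNn g hg.1 z hzN)))
          · rw [S.comm_rest hQi hQn hQr hc1 hg.1 hg.2
              (S.mem_rest (hline k hk) hzQ hkz), mul_inv_cancel_right]
            exact Subgroup.subset_closure (Or.inr ⟨hzQ, k, hk, hkz⟩)
        have hys' : y ∈ F ⊔ W := by
          refine (show Subgroup.closure (gens (insert c s)) ≤ F ⊔ W from
            (Subgroup.closure_le _).2 ?_) hys
          rintro z (hz | ⟨hzQ, k, hk, hkz⟩)
          · exact Subgroup.mem_sup_right (Subgroup.subset_closure (Or.inl hz))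
          · rcases Finset.mem_insert.1 hk with rfl | hk
            · exact Subgroup.mem_sup_left ⟨hzQ, hkz⟩
            · exact Subgroup.mem_sup_right (Subgroup.subset_closure (Or.inr ⟨hzQ, k, hk, hkz⟩))
        rw [← SetLike.mem_coe, Subgroup.coe_mul_of_left_le_normalizer_right F W hFW] at hys'
        obtain ⟨e, ⟨heQ, hec⟩, z, hz, hez : e * z = y⟩ := hys'
        have hzrest : z ∈ N ⊔ S.rest Q c := by
          refine (show W ≤ N ⊔ S.rest Q c from (Subgroup.closure_le _).2 ?_) hz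
          rintro z ((⟨hzQ, hzb⟩ | hzN) | ⟨hzQ, k, hk, hkz⟩)
          · exact Subgroup.mem_sup_right (S.mem_rest (notMem_symm S.exp hb1 hcb) hzQ hzb)
          · exact Subgroup.mem_sup_left hzN
          · exact Subgroup.mem_sup_right (S.mem_rest (hline k hk) hzQ hkz)
        obtain ⟨e', he', he'c, l, hl, rfl⟩ :=
          S.decompose hQi hQn hQr hNQ hNi hc1 hzrest
        have := hclaim x hx b c hb hca hcb d hd hbd (e * e') (mul_mem heQ (hNQ he'))
          (by rw [map_mul, show S.φ c e = e from hec, he'c]) l hl (by rw [mul_assoc, hez])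
        have heN : e ∈ N := by
          have := mul_mem this (inv_mem he')
          rwa [mul_inv_cancel_right] at this
        rw [← hez]
        exact mul_mem (Subgroup.subset_closure (Or.inl (Or.inr heN))) hz
    have htop : y ∈ Subgroup.closure
        (gens (Finset.univ.filter fun c => c ∉ Subgroup.zpowers a ∧ c ∉ Subgroup.zpowers b)) := by
      refine le_of_fixed S.φ S.comm (not_isCyclic S.exp S.card)
        (coprime_card S.φ S.card S.fpf) hQi (fun c hc z hz hcz => ?_) hyQ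
      apply Subgroup.subset_closure
      by_cases hca : c ∈ Subgroup.zpowers a
      · refine Or.inl (Or.inr (hNa z hz ?_))
        rw [← mem_fixedBy, ← fixedBy_eq_of_mem S.φ S.exp hca hc]
        exact hcz
      by_cases hcb : c ∈ Subgroup.zpowers b
      · refine Or.inl (Or.inl ⟨hz, ?_⟩)
        rw [← mem_fixedBy, ← fixedBy_eq_of_mem S.φ S.exp hcb hc]
        exact hcz
      exact Or.inr ⟨hz, c, by simp [hca, hcb], hcz⟩
    have hy0 := hred _ (fun c hc => by simpa using hc) htop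
    let W' : Subgroup H :=
      { carrier := {z | z ∈ Q ∧ z⁻¹ * S.φ b z ∈ N}
        one_mem' := ⟨one_mem _, by simp⟩
        mul_mem' := fun {z w} (hz : _ ∧ _) (hw : _ ∧ _) => ⟨mul_mem hz.1 hw.1, by
          have : (z * w)⁻¹ * S.φ b (z * w) =
              (w⁻¹ * (z⁻¹ * S.φ b z) * w⁻¹⁻¹) * (w⁻¹ * S.φ b w) := by rw [map_mul]; group
          rw [this]
          exact mul_mem (hNn _ (inv_mem hw.1) _ hz.2) hw.2⟩
        inv_mem' := fun {z} (hz : _ ∧ _) => ⟨inv_mem hz.1, by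
          have : z⁻¹⁻¹ * S.φ b z⁻¹ = z * (z⁻¹ * S.φ b z)⁻¹ * z⁻¹ := by rw [map_inv]; group
          rw [this]
          exact hNn _ hz.1 _ (inv_mem hz.2)⟩ }
    refine ((show Subgroup.closure (gens ∅) ≤ W' from (Subgroup.closure_le _).2 ?_) hy0).2
    rintro z ((⟨hzQ, hzb⟩ | hzN) | ⟨-, k, hk, -⟩)
    · exact ⟨hzQ, by rw [hzb, inv_mul_cancel]; exact one_mem _⟩
    · exact ⟨hNQ hzN, mul_mem (inv_mem hzN) (hNi b z hzN)⟩
    · simp at hk
  let D : Subgroup H :=
    { carrier := {d | d ∈ Q ∧ ∀ x ∈ T, d⁻¹ * (x * d * x⁻¹) ∈ N}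
      one_mem' := ⟨one_mem _, fun x _ => by simp⟩
      mul_mem' := fun {z w} (hz : _ ∧ _) (hw : _ ∧ _) => ⟨mul_mem hz.1 hw.1, fun x hx => by
        have : (z * w)⁻¹ * (x * (z * w) * x⁻¹) =
            (w⁻¹ * (z⁻¹ * (x * z * x⁻¹)) * w⁻¹⁻¹) * (w⁻¹ * (x * w * x⁻¹)) := by group
        rw [this]
        exact mul_mem (hNn _ (inv_mem hw.1) _ (hz.2 x hx)) (hw.2 x hx)⟩
      inv_mem' := fun {z} (hz : _ ∧ _) => ⟨inv_mem hz.1, fun x hx => by
        have : z⁻¹⁻¹ * (x * z⁻¹ * x⁻¹) = z * (z⁻¹ * (x * z * x⁻¹))⁻¹ * z⁻¹ := by group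
        rw [this]
        exact hNn _ hz.1 _ (inv_mem (hz.2 x hx))⟩ }
  have hQD : Q ≤ D := by
    refine le_of_fixed S.φ S.comm (not_isCyclic S.exp S.card)
      (coprime_card S.φ S.card S.fpf) hQi fun c hc d hd hcd => ⟨hd, fun g hg => ?_⟩
    by_cases hca : c ∈ Subgroup.zpowers a
    · have had : S.φ a d = d := by
        rw [← mem_fixedBy, ← fixedBy_eq_of_mem S.φ S.exp hca hc]
        exact hcd
      rw [hNT d (hNa d hd had) g hg, mul_inv_cancel_right, inv_mul_cancel]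
      exact one_mem _
    -- every element of `T` is a commutator with `c`
    have hinj : Function.Injective
        (fun x : T => (⟨(x : H)⁻¹ * S.φ c x, mul_mem (inv_mem x.2) (hTi c _ x.2)⟩ : T)) := by
      intro x x' hxx
      have h1 : (x : H)⁻¹ * S.φ c x = (x' : H)⁻¹ * S.φ c x' := congrArg Subtype.val hxx
      have h2 : S.φ c ((x' : H) * (x : H)⁻¹) = (x' : H) * (x : H)⁻¹ := by
        have h3 : S.φ c x' = (x' : H) * ((x : H)⁻¹ * S.φ c x) := by rw [h1, mul_inv_cancel_left]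
        rw [map_mul, map_inv, h3]
        group
      exact Subtype.ext (mul_inv_eq_one.1 (eq_one_of_fixed S.φ S.comm S.exp S.card S.fpf ha hca
        (hTa _ (mul_mem x'.2 (inv_mem x.2))) h2)).symm
    obtain ⟨⟨x, hx⟩, hxg⟩ := (Finite.injective_iff_surjective.1 hinj) ⟨g, hg⟩
    have hg' : x⁻¹ * S.φ c x = g := congrArg Subtype.val hxg
    have h := hmem x hx c hca d hd hcd
    have e1 : (x * d * x⁻¹)⁻¹ * S.φ c (x * d * x⁻¹) = x * (d⁻¹ * (g * d * g⁻¹)) * x⁻¹ := by
      rw [map_mul, map_mul, map_inv, hcd, ← hg']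
      group
    rw [e1] at h
    have h2 := hNT _ h x hx
    have : d⁻¹ * (g * d * g⁻¹) = x * (d⁻¹ * (g * d * g⁻¹)) * x⁻¹ := by
      calc d⁻¹ * (g * d * g⁻¹) = x⁻¹ * (x * (d⁻¹ * (g * d * g⁻¹)) * x⁻¹ * x) := by group
        _ = x⁻¹ * (x * (x * (d⁻¹ * (g * d * g⁻¹)) * x⁻¹)) := by rw [h2]
        _ = _ := by group
    rw [this]
    exact h
  have hcomm : ⁅Q, T⁆ ≤ N := Subgroup.commutator_le.2 fun d hd x hx => by
    have h := (hQD (inv_mem hd)).2 x hx
    simpa [commutatorElement_def, mul_assoc] using h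
  refine CfsgLib.Coprime.le_centralizer_of_commutator_commutator_eq_bot
    ((Subgroup.le_normalizer_iff).2 hTQ) hTc (le_bot_iff.1 ?_)
  refine (Subgroup.commutator_mono hcomm le_rfl).trans (Subgroup.commutator_le.2 fun n hn x hx => ?_)
  rw [Subgroup.mem_bot, commutatorElement_eq_one_iff_mul_comm]
  exact (hNT n hn x hx).symm

/-- The component claim for an abelian `Q`. -/
theorem claim_of_comm (habel : ∀ x ∈ Q, ∀ y ∈ Q, x * y = y * x) (N : Subgroup H) :
    S.Claim Q T N a := by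
  intro x hx b c hba hca hcb d hd hbd e he hce l hl hy
  suffices e = 1 by rw [this]; exact one_mem _
  have hb1 : b ≠ 1 := fun h => hba (h ▸ one_mem _)
  have hc1 : c ≠ 1 := fun h => hca (h ▸ one_mem _)
  obtain ⟨i, j, hi, -, hij⟩ := exists_eq_pow_mul S.comm S.exp S.card ha hba c
  have hi0 : i ≠ 0 := by
    rintro rfl
    apply hca
    rw [← hij, pow_zero, one_mul]
    exact pow_mem (Subgroup.mem_zpowers a) j
  have hbi1 : b ^ i ≠ 1 := fun h => hb1 (Subgroup.mem_bot.1 (mem_of_pow_mem S.exp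
    (Finset.mem_Ico.2 ⟨by omega, hi⟩) (Subgroup.mem_bot.2 h)))
  have haj : a ^ j ≠ 1 := fun h => hcb (by
    rw [← hij, h, mul_one]; exact pow_mem (Subgroup.mem_zpowers b) i)
  have hψcomm : ∀ z ∈ Q, ∀ w ∈ Q, Commute (S.ψ z - 1) (S.ψ w - 1) := fun z hz w hw => by
    have : Commute (S.ψ z) (S.ψ w) := by
      rw [Commute, SemiconjBy, ← map_mul, ← map_mul, habel z hz w hw]
    exact (this.sub_left (Commute.one_left _)).sub_right (Commute.one_right _)
  -- moving `ρ` across the two kinds of products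
  have hmove : ∀ (g : A) (f z : H), S.ρ g * ((S.ψ f - 1) * (S.ψ z - 1)) =
      (S.ψ (S.φ g f) - 1) * (S.ψ (S.φ g z) - 1) * S.ρ g := fun g f z => by
    have hsub : ∀ k, S.ρ g * (S.ψ k - 1) = (S.ψ (S.φ g k) - 1) * S.ρ g := fun k => by
      rw [mul_sub, mul_one, sub_mul, one_mul, S.compat]
    rw [← mul_assoc, hsub, mul_assoc, hsub, ← mul_assoc]
  have hfix : ∀ g : A, ∀ f ∈ Q, S.φ g f = f → ∀ z ∈ Q,
      Commute (S.ρ g) ((S.ψ f - 1) * (S.ψ z - 1)) := by
    intro g f hf hgf z hz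
    rcases eq_or_ne g 1 with rfl | hg1
    · rw [map_one]; exact Commute.one_left _
    obtain ⟨e', he', hge', l', hl', rfl⟩ := S.decompose_self hQi hQn hQr hg1 hz
    rw [Commute, SemiconjBy, hmove, hgf, map_mul (S.φ g), hge',
      S.pair_component hQi hQn hQr hg1 hf hgf he' hge' (S.rest_invariant hQi g g hl'),
      S.pair_component hQi hQn hQr hg1 hf hgf he' hge' hl']
  have hρinv : ∀ g : A, S.ρ g * S.ρ g⁻¹ = 1 := fun g => by
    rw [← map_mul, mul_inv_cancel, map_one]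
  have hkey : ∀ f ∈ Q, S.φ c f = f →
      (S.ψ (S.φ a f) - 1) * (S.ψ (S.φ a e) - 1) = (S.ψ f - 1) * (S.ψ e - 1) := by
    intro f hf hcf
    set y := x * d * x⁻¹ with hy'
    set U := (S.ψ f - 1) * (S.ψ y - 1) with hU
    have hUe : U = (S.ψ f - 1) * (S.ψ e - 1) := by
      rw [hU, ← hy, S.pair_component hQi hQn hQr hc1 hf hcf he hce hl]
    have hUc : Commute (S.ρ c⁻¹) U :=
      hfix c⁻¹ f hf ((fixer S.φ f).inv_mem hcf) y (hTQ x hx d hd)
    have hxinv : ∀ k : H, S.ψ x⁻¹ * (S.ψ k - 1) = (S.ψ (x⁻¹ * k * x) - 1) * S.ψ x⁻¹ := fun k => by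
      rw [mul_sub, mul_one, sub_mul, one_mul, ← map_mul, ← map_mul, mul_inv_cancel_right]
    set g := x⁻¹ * f * x with hg
    have hgQ : g ∈ Q := by simpa using hTQ x⁻¹ (inv_mem hx) f hf
    have hV : S.ψ x⁻¹ * U * S.ψ x = (S.ψ d - 1) * (S.ψ g - 1) := by
      rw [hU, ← mul_assoc, hxinv, mul_assoc (S.ψ (x⁻¹ * f * x) - 1), hxinv, ← mul_assoc,
        mul_assoc _ (S.ψ x⁻¹), ← map_mul, inv_mul_cancel, map_one, mul_one]
      have : x⁻¹ * y * x = d := by rw [hy']; group
      rw [this]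
      exact (hψcomm g hgQ d hd).eq
    have hbid : S.φ (b ^ i) d = d := (fixer S.φ d).pow_mem hbd i
    have hVb : Commute (S.ρ (b ^ i)) (S.ψ x⁻¹ * U * S.ψ x) := hV ▸ hfix _ d hd hbid g hgQ
    have hUb : Commute (S.ψ x * S.ρ (b ^ i) * S.ψ x⁻¹) U := by
      have h1 : S.ψ x * S.ψ x⁻¹ = 1 := by rw [← map_mul, mul_inv_cancel, map_one]
      have h2 : S.ψ x * (S.ψ x⁻¹ * U * S.ψ x) * S.ψ x⁻¹ = U := by
        rw [← mul_assoc, ← mul_assoc, h1, one_mul, mul_assoc, h1, mul_one]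
      rw [Commute, SemiconjBy]
      calc S.ψ x * S.ρ (b ^ i) * S.ψ x⁻¹ * U
          = S.ψ x * S.ρ (b ^ i) * (S.ψ x⁻¹ * U * (S.ψ x * S.ψ x⁻¹)) := by
            rw [h1, mul_one]; noncomm_ring
        _ = S.ψ x * (S.ρ (b ^ i) * (S.ψ x⁻¹ * U * S.ψ x)) * S.ψ x⁻¹ := by noncomm_ring
        _ = S.ψ x * ((S.ψ x⁻¹ * U * S.ψ x) * S.ρ (b ^ i)) * S.ψ x⁻¹ := by rw [hVb.eq]
        _ = S.ψ x * S.ψ x⁻¹ * U * S.ψ x * S.ρ (b ^ i) * S.ψ x⁻¹ := by noncomm_ring
        _ = U * (S.ψ x * S.ρ (b ^ i) * S.ψ x⁻¹) := by rw [h1, one_mul]; noncomm_ring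
    set a' := b ^ i * c⁻¹ with ha'
    have ha'mem : a' ∈ Subgroup.zpowers a := by
      rw [ha', ← hij, mul_inv_rev, ← mul_assoc, S.comm (b ^ i), mul_assoc, mul_inv_cancel, mul_one]
      exact inv_mem (pow_mem (Subgroup.mem_zpowers a) j)
    have ha'1 : a' ≠ 1 := by
      rw [ha', Ne, mul_inv_eq_one]
      intro h
      apply haj
      have := hij
      rw [← h] at this
      exact mul_eq_left.1 this
    set z := x * (S.φ (b ^ i) x)⁻¹ with hz
    have hzT : z ∈ T := mul_mem hx (inv_mem (hTi _ x hx))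
    have hza : S.φ a' z = z := by
      rw [← mem_fixedBy, fixedBy_eq_of_mem S.φ S.exp ha'mem ha'1]
      exact hTa z hzT
    have hUz : Commute (S.ψ z * S.ρ a') U := by
      have : S.ψ z * S.ρ a' = S.ψ x * S.ρ (b ^ i) * S.ψ x⁻¹ * S.ρ c⁻¹ := by
        rw [mul_assoc (S.ψ x), S.compat, hz, ha', map_mul S.ψ, map_mul S.ρ, map_inv (S.φ (b ^ i))]
        noncomm_ring
      rw [this]
      exact hUb.mul_left hUc
    have hUm : Commute (S.ρ (a' ^ Nat.card T)) U := by
      have hcomm : Commute (S.ψ z) (S.ρ a') := by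
        rw [Commute, SemiconjBy, S.compat, hza]
      have h := hUz.pow_left (Nat.card T)
      rw [hcomm.mul_pow, ← map_pow, ← map_pow] at h
      have hzm : z ^ Nat.card T = 1 := by
        have : (⟨z, hzT⟩ : T) ^ Nat.card T = 1 := pow_card_eq_one'
        exact congrArg Subtype.val this
      rwa [hzm, map_one, one_mul] at h
    have ham : a' ^ Nat.card T ≠ 1 := by
      intro h
      apply ha'1
      rw [← orderOf_eq_one_iff]
      refine Nat.eq_one_of_dvd_coprimes (coprime_card S.φ S.card S.fpf) (orderOf_dvd_natCard a') ?_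
      exact (orderOf_dvd_of_pow_eq_one h).trans (Subgroup.card_subgroup_dvd_card T)
    have hUa : Commute (S.ρ a) U := by
      have hmem' : a ∈ Subgroup.zpowers (a' ^ Nat.card T) := by
        rw [zpowers_eq_of_mem S.exp (pow_mem ha'mem _) ham]
        exact Subgroup.mem_zpowers a
      rw [← mem_powers_iff_mem_zpowers, Submonoid.mem_powers_iff] at hmem'
      obtain ⟨k, hk⟩ := hmem'
      rw [← hk, map_pow]
      exact hUm.pow_left k
    have hay : S.φ a y = S.φ a e * S.φ a l := by rw [← hy, map_mul]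
    have h := hUa.eq
    rw [hU, hmove, hay, S.pair_component hQi hQn hQr hc1 (hQi a f hf)
      (fixedBy_invariant S.φ S.comm c a hcf) (hQi a e he) (fixedBy_invariant S.φ S.comm c a hce)
      (S.rest_invariant hQi c a hl), ← hU] at h
    have h' := congrArg (· * S.ρ a⁻¹) h
    simp only [mul_assoc, hρinv, mul_one] at h'
    rw [h', hUe]
  -- `a` acts without fixed points on the fixed points of `c` in `Q`
  have hcube : ∀ f ∈ Q, S.φ c f = f → ∀ f' ∈ Q, S.φ c f' = f' →
      (S.ψ (S.φ a f) - S.ψ f) * (S.ψ f' - 1) * (S.ψ e - 1) = 0 := by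
    intro f hf hcf f' hf' hcf'
    have h1 := hkey f hf hcf
    have h2 := hkey f' hf' hcf'
    have h3 := hkey (f * f') (mul_mem hf hf') (by rw [map_mul, hcf, hcf'])
    rw [map_mul (S.φ a), map_mul S.ψ, map_mul S.ψ] at h3
    calc (S.ψ (S.φ a f) - S.ψ f) * (S.ψ f' - 1) * (S.ψ e - 1)
        = ((S.ψ (S.φ a f) * S.ψ (S.φ a f') - 1) * (S.ψ (S.φ a e) - 1)
            - (S.ψ f * S.ψ f' - 1) * (S.ψ e - 1))
          - S.ψ (S.φ a f) * ((S.ψ (S.φ a f') - 1) * (S.ψ (S.φ a e) - 1)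
            - (S.ψ f' - 1) * (S.ψ e - 1))
          - ((S.ψ (S.φ a f) - 1) * (S.ψ (S.φ a e) - 1) - (S.ψ f - 1) * (S.ψ e - 1)) := by
          noncomm_ring
      _ = 0 := by rw [h1, h2, h3]; simp
  set F := Q ⊓ fixedBy S.φ c with hF
  have hFa : ∀ f ∈ F, S.φ a f ∈ F := fun f hf =>
    ⟨hQi a f hf.1, fixedBy_invariant S.φ S.comm c a hf.2⟩
  have hinj : Function.Injective
      (fun f : F => (⟨(f : H)⁻¹ * S.φ a f, mul_mem (inv_mem f.2) (hFa _ f.2)⟩ : F)) := by
    intro f f' hff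
    have h1 : (f : H)⁻¹ * S.φ a f = (f' : H)⁻¹ * S.φ a f' := congrArg Subtype.val hff
    have h2 : S.φ a ((f' : H) * (f : H)⁻¹) = (f' : H) * (f : H)⁻¹ := by
      have h3 : S.φ a f' = (f' : H) * ((f : H)⁻¹ * S.φ a f) := by rw [h1, mul_inv_cancel_left]
      rw [map_mul, map_inv, h3]
      group
    exact Subtype.ext (mul_inv_eq_one.1 (eq_one_of_fixed S.φ S.comm S.exp S.card S.fpf ha hca
      h2 (mul_mem f'.2 (inv_mem f.2)).2)).symm
  obtain ⟨⟨f, hf⟩, hfe⟩ := (Finite.injective_iff_surjective.1 hinj) ⟨e, he, hce⟩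
  have hfe' : f⁻¹ * S.φ a f = e := congrArg Subtype.val hfe
  have h := hcube f hf.1 hf.2 e he hce
  have hae : S.φ a f = f * e := by rw [← hfe', mul_inv_cancel_left]
  rw [hae, map_mul] at h
  have h' := congrArg (S.ψ f⁻¹ * ·) h
  have hinv : S.ψ f⁻¹ * S.ψ f = 1 := by rw [← map_mul, inv_mul_cancel, map_one]
  simp only [mul_zero, ← mul_assoc, mul_sub, hinv, one_mul] at h'
  have h3 : (S.ψ e - 1) ^ 3 * 1 = 0 := by
    rw [← h']
    noncomm_ring
  have hem : S.ψ e ^ Nat.card Q = 1 := by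
    have : (⟨e, he⟩ : Q) ^ Nat.card Q = 1 := pow_card_eq_one'
    rw [← map_pow, show e ^ Nat.card Q = 1 from congrArg Subtype.val this, map_one]
  have h4 := semisimple S.char hQr hem h3
  rw [mul_one, sub_eq_zero] at h4
  exact S.inj (by rw [h4, map_one])

/-- The component claim when `T` centralises the derived group of `Q`. -/
theorem claim_of_derived (hQ' : ∀ k ∈ ⁅Q, Q⁆, ∀ x ∈ T, x * k = k * x) (N : Subgroup H)
    (hN : ∀ e ∈ Q, (∀ y ∈ Q, y * e = e * y) → e ∈ N) : S.Claim Q T N a := by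
  intro x hx b c hba hca hcb d hd hbd e he hce l hl hy
  have hb1 : b ≠ 1 := fun h => hba (h ▸ one_mem _)
  have hc1 : c ≠ 1 := fun h => hca (h ▸ one_mem _)
  have hD : ⁅Q, Q⁆ ≤ Q := Subgroup.commutator_le.2 fun y hy z hz => by
    rw [commutatorElement_def]
    exact mul_mem (mul_mem (mul_mem hy hz) (inv_mem hy)) (inv_mem hz)
  have hkill : ∀ k ∈ ⁅Q, Q⁆, S.φ c k = k → S.ψ e * (S.ψ k - 1) = S.ψ k - 1 := by
    intro k hk hck
    set U := S.ψ k - 1 with hU
    have hd' : S.ψ d * U = U := (S.absorb hQi hQn hQr hc1 (hD hk) hck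
      (S.mem_rest (notMem_symm S.exp hb1 hcb) hd hbd)).2
    have hxU : Commute (S.ψ x⁻¹) U := by
      refine Commute.sub_right ?_ (Commute.one_right _)
      rw [Commute, SemiconjBy, ← map_mul, ← map_mul, hQ' k hk x⁻¹ (inv_mem hx)]
    have hyU : S.ψ (x * d * x⁻¹) * U = U := by
      rw [map_mul, map_mul, mul_assoc, hxU.eq, ← mul_assoc, mul_assoc (S.ψ x), hd', mul_assoc,
        ← hxU.eq, ← mul_assoc, ← map_mul, mul_inv_cancel, map_one, one_mul]
    rw [← hy, map_mul, mul_assoc, (S.absorb hQi hQn hQr hc1 (hD hk) hck hl).2] at hyU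
    exact hyU
  have hcommF : ∀ f ∈ Q, S.φ c f = f → f * e = e * f := by
    intro f hf hcf
    set k := f * e⁻¹ * f⁻¹ * e with hk
    have hkD : k ∈ ⁅Q, Q⁆ := by
      have := Subgroup.commutator_mem_commutator hf (inv_mem he)
      rwa [commutatorElement_def, inv_inv] at this
    have hck : S.φ c k = k := by simp only [hk, map_mul, map_inv, hcf, hce]
    have hk'D : f⁻¹ * k * f ∈ ⁅Q, Q⁆ := by
      have hn : Q ≤ Subgroup.normalizer ((⁅Q, Q⁆ : Subgroup H) : Set H) :=
        Subgroup.normalizer_commutator_ge_right Q Q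
      simpa using Subgroup.le_normalizer_iff.1 hn f⁻¹ (inv_mem hf) k hkD
    have hck' : S.φ c (f⁻¹ * k * f) = f⁻¹ * k * f := by simp only [map_mul, map_inv, hcf, hck]
    have h1 := hkill k hkD hck
    have h2 := hkill _ hk'D hck'
    set U := S.ψ k - 1 with hU
    have hff : S.ψ f * S.ψ f⁻¹ = 1 := by rw [← map_mul, mul_inv_cancel, map_one]
    have hff' : S.ψ f⁻¹ * S.ψ f = 1 := by rw [← map_mul, inv_mul_cancel, map_one]
    have hU' : S.ψ (f⁻¹ * k * f) - 1 = S.ψ f⁻¹ * U * S.ψ f := by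
      rw [hU, mul_sub, mul_one, sub_mul, hff', map_mul, map_mul]
    rw [hU'] at h2
    have h3 : S.ψ e⁻¹ * (S.ψ f⁻¹ * U) = S.ψ f⁻¹ * U := by
      have h5 : S.ψ e * (S.ψ f⁻¹ * U) = S.ψ f⁻¹ * U := by
        have := congrArg (· * S.ψ f⁻¹) h2
        simpa only [mul_assoc, hff, mul_one] using this
      conv_lhs => rw [← h5, ← mul_assoc, ← map_mul, inv_mul_cancel, map_one, one_mul]
    have h4 : S.ψ k * U = U := by
      rw [hk, map_mul, map_mul, map_mul, mul_assoc, h1, mul_assoc, mul_assoc, h3, ← mul_assoc, hff,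
        one_mul]
    have h5 : (S.ψ k - 1) ^ 2 * 1 = 0 := by
      rw [mul_one, pow_two, sub_mul, one_mul, h4, sub_self]
    have hkQ : k ∈ Q := hD hkD
    have hkm : S.ψ k ^ Nat.card Q = 1 := by
      have : (⟨k, hkQ⟩ : Q) ^ Nat.card Q = 1 := pow_card_eq_one'
      rw [← map_pow, show k ^ Nat.card Q = 1 from congrArg Subtype.val this, map_one]
    have h6 := semisimple S.char hQr hkm h5
    rw [mul_one, sub_eq_zero] at h6
    have hk1 : k = 1 := S.inj (by rw [h6, map_one])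
    calc f * e = e * (f * e⁻¹ * f⁻¹ * e)⁻¹ * f := by group
      _ = e * k⁻¹ * f := rfl
      _ = _ := by rw [hk1, inv_one, mul_one]
  refine hN e he fun y hy => ?_
  obtain ⟨f, hf, hcf, l', hl', rfl⟩ := S.decompose_self hQi hQn hQr hc1 hy
  rw [mul_assoc, ← S.comm_rest hQi hQn hQr hc1 he hce hl', ← mul_assoc, hcommF f hf hcf, mul_assoc]

omit hQi hQn hQr hTQ hTc

/-- The key step of Ward's theorem. -/
theorem key : ∀ (n : ℕ) (Q : Subgroup H), Nat.card Q ≤ n → (∀ c, ∀ x ∈ Q, S.φ c x ∈ Q) →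
    Group.IsNilpotent Q → (Nat.card Q).Coprime r → (∀ x ∈ T, ∀ y ∈ Q, x * y * x⁻¹ ∈ Q) →
    (Nat.card T).Coprime (Nat.card Q) → T ≤ Subgroup.centralizer (Q : Set H) := by
  intro n
  induction n with
  | zero => intro Q hc; exact absurd hc (Nat.not_le.2 Nat.card_pos)
  | succ n ih =>
    intro Q hc hQi hQn hQr hTQ hTc
    have hFinv : ∀ c, ∀ x ∈ Q ⊓ fixedBy S.φ a, S.φ c x ∈ Q ⊓ fixedBy S.φ a :=
      fun c x hx => ⟨hQi c x hx.1, fixedBy_invariant S.φ S.comm a c hx.2⟩
    have hFT : ∀ x ∈ T, ∀ y ∈ Q, S.φ a y = y → x * y = y * x := fun x hx y hy hay =>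
      (S.commute_fixed hQi hQn hQr hTi ha hTa hTQ hTc hx hy hay).eq
    by_cases habel : ∀ x ∈ Q, ∀ y ∈ Q, x * y = y * x
    · exact S.finish hQi hQn hQr hTi ha hTa hTQ hTc (N := Q ⊓ fixedBy S.φ a) inf_le_left hFinv
        (fun g hg n hn => by
          rw [habel g hg n hn.1, mul_inv_cancel_right]; exact hn)
        (fun n hn x hx => hFT x hx n hn.1 hn.2) (fun y hy hay => ⟨hy, hay⟩)
        (S.claim_of_comm hQi hQn hQr hTi ha hTa hTQ hTc habel _)
    haveI := hQn
    haveI := S.solv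
    have : Group.IsSolvable Q := inferInstance
    have hQb : Q ≠ ⊥ := fun h => habel fun x hx y hy => by
      rw [h, Subgroup.mem_bot] at hx hy
      rw [hx, hy]
    have hsmall : ∀ L : Subgroup H, L ≤ Q → L ≠ Q → (∀ c, ∀ x ∈ L, S.φ c x ∈ L) →
        (∀ x ∈ T, ∀ y ∈ L, x * y * x⁻¹ ∈ L) → ∀ x ∈ T, ∀ y ∈ L, x * y = y * x := by
      intro L hLQ hne hLi hLT x hx y hy
      have hlt : Nat.card L < Nat.card Q :=
        lt_of_le_of_ne (Subgroup.card_le_of_le hLQ)
          (fun he => hne (Subgroup.eq_of_le_of_card_ge hLQ he.ge))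
      have h := ih L (by omega) hLi (Group.nilpotent_of_mulEquiv (Subgroup.subgroupOfEquivOfLe hLQ))
        (hQr.coprime_dvd_left (Subgroup.card_dvd_of_le hLQ)) hLT
        (hTc.coprime_dvd_right (Subgroup.card_dvd_of_le hLQ)) hx
      exact (Subgroup.mem_centralizer_iff.1 h y hy).symm
    have hD : ∀ k ∈ ⁅Q, Q⁆, ∀ x ∈ T, x * k = k * x := by
      have hlt : ⁅Q, Q⁆ < Q := Group.IsSolvable.commutator_lt_of_ne_bot hQb
      have hmap : ∀ f : H →* H, (∀ y ∈ Q, f y ∈ Q) → ∀ k ∈ ⁅Q, Q⁆, f k ∈ ⁅Q, Q⁆ := by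
        intro f hf k hk
        have h1 : ⁅Q, Q⁆.map f ≤ ⁅Q, Q⁆ := by
          rw [Subgroup.map_commutator]
          have : Q.map f ≤ Q := by
            rintro _ ⟨y, hy, rfl⟩
            exact hf y hy
          exact Subgroup.commutator_mono this this
        exact h1 ⟨k, hk, rfl⟩
      intro k hk x hx
      exact hsmall _ hlt.le hlt.ne (fun c k hk => hmap (S.φ c : H →* H) (hQi c) k hk)
        (fun x hx k hk => hmap (MulAut.conj x : H →* H) (hTQ x hx) k hk) x hx k hk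
    set Z := Q ⊓ Subgroup.centralizer (Q : Set H) with hZdef
    have hZmem : ∀ e, e ∈ Z ↔ e ∈ Q ∧ ∀ y ∈ Q, y * e = e * y := fun e => by
      rw [hZdef, Subgroup.mem_inf, Subgroup.mem_centralizer_iff]
      rfl
    have hZi : ∀ c, ∀ x ∈ Z, S.φ c x ∈ Z := by
      intro c z hz
      rw [hZmem] at hz ⊢
      refine ⟨hQi c z hz.1, fun y hy => ?_⟩
      have : S.φ c (S.φ c⁻¹ y) = y := by
        rw [← MulAut.mul_apply, ← map_mul, mul_inv_cancel, map_one, MulAut.one_apply]
      rw [← this, ← map_mul, ← map_mul, hz.2 _ (hQi _ y hy)]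
    have hZT : ∀ x ∈ T, ∀ z ∈ Z, x * z = z * x := by
      refine hsmall Z inf_le_left (fun h => habel fun y hy z hz => ?_) hZi (fun x hx z hz => ?_)
      · rw [← h] at hz
        exact ((hZmem z).1 hz).2 y hy
      · rw [hZmem] at hz ⊢
        refine ⟨hTQ x hx z hz.1, fun y hy => ?_⟩
        have hy' : x⁻¹ * y * x ∈ Q := by simpa using hTQ x⁻¹ (inv_mem hx) y hy
        calc y * (x * z * x⁻¹) = x * ((x⁻¹ * y * x) * z) * x⁻¹ := by group
          _ = x * (z * (x⁻¹ * y * x)) * x⁻¹ := by rw [hz.2 _ hy']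
          _ = x * z * x⁻¹ * y := by group
    set N := Q ⊓ fixedBy S.φ a ⊔ Z with hNdef
    have hNQ : N ≤ Q := sup_le inf_le_left inf_le_left
    have hNn : Q ≤ Subgroup.normalizer (N : Set H) := by
      refine le_of_fixed S.φ S.comm (not_isCyclic S.exp S.card)
        (coprime_card S.φ S.card S.fpf) hQi fun c hc g hg hcg => ?_
      by_cases hca : c ∈ Subgroup.zpowers a
      · refine Subgroup.le_normalizer (Subgroup.mem_sup_left ⟨hg, ?_⟩)
        rw [← fixedBy_eq_of_mem S.φ S.exp hca hc]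
        exact hcg
      · have hN : N ≤ Subgroup.centralizer {g} := by
          refine sup_le (fun z hz => Subgroup.mem_centralizer_singleton_iff.2 ?_)
            (fun z hz => Subgroup.mem_centralizer_singleton_iff.2 (((hZmem z).1 hz).2 g hg).symm)
          exact S.comm_rest hQi hQn hQr ha hz.1 hz.2 (S.mem_rest hca hg hcg)
        rw [Subgroup.mem_normalizer_iff]
        intro z
        constructor
        · intro hz
          rwa [← Subgroup.mem_centralizer_singleton_iff.1 (hN hz), mul_inv_cancel_right]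
        · intro hz
          have h := Subgroup.mem_centralizer_singleton_iff.1 (hN hz)
          have : z = g * z * g⁻¹ := by
            calc z = g⁻¹ * (g * z * g⁻¹ * g) := by group
              _ = g⁻¹ * (g * (g * z * g⁻¹)) := by rw [h]
              _ = _ := by group
          rwa [this]
    refine S.finish hQi hQn hQr hTi ha hTa hTQ hTc hNQ ?_
      (fun g hg n hn => Subgroup.le_normalizer_iff.1 hNn g hg n hn) ?_
      (fun y hy hay => Subgroup.mem_sup_left ⟨hy, hay⟩)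
      (S.claim_of_derived hQi hQn hQr hTi ha hTa hTQ hTc hD N
        fun e he hcomm => Subgroup.mem_sup_right ((hZmem e).2 ⟨he, hcomm⟩))
    · intro c x hx
      refine (show N ≤ N.comap (S.φ c : H →* H) from sup_le ?_ ?_) hx
      · exact fun y hy => Subgroup.mem_sup_left (hFinv c y hy)
      · exact fun y hy => Subgroup.mem_sup_right (hZi c y hy)
    · intro n hn x hx
      have : N ≤ Subgroup.centralizer {x} :=
        sup_le (fun y hy => Subgroup.mem_centralizer_singleton_iff.2 (hFT x hx y hy.1 hy.2).symm)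
          (fun y hy => Subgroup.mem_centralizer_singleton_iff.2 (hZT x hx y hy).symm)
      exact (Subgroup.mem_centralizer_singleton_iff.1 (this hn)).symm

end Setup

end CfsgLib.Ward
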