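import Mathlib
import Cfsg.Agent.Ward.Key

/-!
Ward's theorem: a solvable group with a fixed-point-free elementary abelian group of automorphisms
of order `p ^ 2` is nilpotent-by-nilpotent.
-/

set_option autoImplicit false

open Finset

namespace CfsgLib.Ward

universe u w

variable {p : ℕ} [hp : Fact p.Prime] {A : Type w} [Group A] [Fintype A]

theorem quotient_fpf {G : Type u} [Group G] [Finite G] (hA : ∀ a b : A, a * b = b * a)
    (hcard : Nat.card A = p ^ 2) (φ : A →* MulAut G) (hfpf : ∀ x, (∀ a, φ a x = x) → x = 1)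
    (N : Subgroup G) [N.Normal] (hN : ∀ a, ∀ x ∈ N, φ a x ∈ N) (φ' : A →* MulAut (G ⧸ N))
    (hφ' : ∀ a (g : G), φ' a g = (φ a g : G)) (q : G ⧸ N) (hq : ∀ a, φ' a q = q) : q = 1 := by
  induction q using QuotientGroup.induction_on with
  | H k =>
    obtain ⟨c, hc, hkc⟩ := CfsgLib.Coprime.exists_fixed_mem_coset_hom φ (N := N) hN
      ((coprime_card φ hcard hfpf).coprime_dvd_right (Subgroup.card_subgroup_dvd_card N))
      (Or.inl (Group.isSolvable_of_comm hA)) (k := k) (fun a => by
        rw [← QuotientGroup.eq, ← hφ', hq a])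
    rw [hfpf c hc, mul_one] at hkc
    rw [QuotientGroup.eq_one_iff]
    simpa using inv_mem hkc

theorem char_invariant {G : Type u} [Group G] (φ : A →* MulAut G) (F : Subgroup G)
    (hF : ∀ a, ∀ x ∈ F, φ a x ∈ F) (Q : Subgroup F) [hQ : Q.Characteristic] (a : A) {x : G}
    (hx : x ∈ Q.map F.subtype) : φ a x ∈ Q.map F.subtype := by
  obtain ⟨y, hy, rfl⟩ := hx
  refine ⟨restr φ F hF a y, ?_, rfl⟩
  have h := Subgroup.characteristic_iff_map_eq.1 hQ (restr φ F hF a)
  rw [← h]
  exact ⟨y, hy, rfl⟩

/-- In the faithful situation without normal `r`-subgroups, nilpotency passes up. -/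
theorem nilpotent_of_faithful {r : ℕ} [hr : Fact r.Prime] {H : Type u} [Group H] [Finite H]
    {R : Type*} [Ring R] (S : Setup p r A H R)
    (hcore : ∀ P : Subgroup H, P.Normal → (∀ a, ∀ x ∈ P, S.φ a x ∈ P) → IsPGroup r P → P = ⊥)
    (F : Subgroup H) [F.Normal] (hFi : ∀ a, ∀ x ∈ F, S.φ a x ∈ F) (hFn : Group.IsNilpotent F)
    (hQn : Group.IsNilpotent (H ⧸ F)) : Group.IsNilpotent H := by
  haveI := hFn
  haveI := hQn
  refine ((Group.isNilpotent_of_finite_tfae (G := H)).out 0 3 rfl rfl).2 fun t ht P => ?_
  have hcop := coprime_card S.φ S.card S.fpf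
  obtain ⟨T, hT⟩ := CfsgLib.Coprime.exists_invariant_sylow_hom S.φ hcop
    (Or.inl (Group.isSolvable_of_comm S.comm)) t
  have hFN : F ≤ Subgroup.normalizer ((T : Subgroup H) : Set H) := by
    set W := F ⊓ Subgroup.normalizer ((T : Subgroup H) : Set H) with hW
    have hdvd : ∀ q : ℕ, q.Prime →
        q ^ (Nat.card F).factorization q ∣ Nat.card W := by
      intro q hq
      haveI := Fact.mk hq
      obtain ⟨Q⟩ : Nonempty (Sylow q F) := inferInstance
      haveI hQn' : (Q : Subgroup F).Normal := inferInstance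
      haveI := Q.characteristic_of_normal hQn'
      set Q' := (Q : Subgroup F).map F.subtype with hQ'
      haveI hQ'n : Q'.Normal := by rw [hQ']; infer_instance
      have hQ'p : IsPGroup q Q' := Q.isPGroup'.map _
      have hQi : ∀ a, ∀ x ∈ Q', S.φ a x ∈ Q' := fun a x hx => char_invariant S.φ F hFi _ a hx
      have hle : Q' ≤ Subgroup.normalizer ((T : Subgroup H) : Set H) := by
        rcases eq_or_ne q t with rfl | hqt
        · exact (hQ'p.le_sylow_of_normal T).trans Subgroup.le_normalizer
        rcases eq_or_ne q r with rfl | hqr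
        · rw [hcore Q' hQ'n hQi hQ'p]
          exact bot_le
        have hcQ : (Nat.card Q').Coprime r := by
          obtain ⟨k, hk⟩ := IsPGroup.iff_card.1 hQ'p
          rw [hk]
          exact ((Nat.coprime_primes hq hr.out).2 hqr).pow_left k
        have hcT : ∀ R : Subgroup H, R ≤ T → (Nat.card R).Coprime (Nat.card Q') := fun R hR => by
          obtain ⟨k, hk⟩ := IsPGroup.iff_card.1 hQ'p
          obtain ⟨j, hj⟩ := IsPGroup.iff_card.1 (T.isPGroup'.to_le hR)
          rw [hk, hj]
          exact ((Nat.coprime_primes ht.out hq).2 hqt.symm).pow j k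
        have hTc : (T : Subgroup H) ≤ Subgroup.centralizer (Q' : Set H) := by
          refine le_of_fixed S.φ S.comm (not_isCyclic S.exp S.card) hcop hT fun a ha x hx hax => ?_
          refine S.key (T := (T : Subgroup H) ⊓ fixedBy S.φ a) (a := a)
            (fun c y hy => ⟨hT c y hy.1, fixedBy_invariant S.φ S.comm a c hy.2⟩) ha
            (fun y hy => hy.2) _ Q' le_rfl hQi hQ'p.isNilpotent hcQ
            (fun y _ z hz => hQ'n.conj_mem z hz y) (hcT _ inf_le_left) ⟨hx, hax⟩
        exact ((Subgroup.le_centralizer_iff).1 hTc).trans (Subgroup.centralizer_le_normalizer _)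
      have hQW : Q' ≤ W := le_inf (Subgroup.map_subtype_le _) hle
      have := Subgroup.card_dvd_of_le hQW
      rwa [hQ', Subgroup.card_map_of_injective F.subtype_injective, Q.card_eq_multiplicity] at this
    have hWF : Nat.card F ∣ Nat.card W := by
      refine (Nat.factorization_le_iff_dvd Nat.card_pos.ne' Nat.card_pos.ne').mp fun q => ?_
      by_cases hq : q.Prime
      · exact (hq.pow_dvd_iff_le_factorization Nat.card_pos.ne').mp (hdvd q hq)
      · simp [hq]
    exact inf_eq_left.mp
      (Subgroup.eq_of_le_of_card_ge inf_le_left (Nat.le_of_dvd Nat.card_pos hWF))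
  have hTFn : ((T : Subgroup H) ⊔ F).Normal := by
    haveI h1 : (T.mapSurjective (QuotientGroup.mk'_surjective F) : Subgroup (H ⧸ F)).Normal :=
      inferInstance
    rw [Sylow.coe_mapSurjective] at h1
    have h2 := h1.comap (QuotientGroup.mk' F)
    rwa [Subgroup.comap_map_eq, QuotientGroup.ker_mk'] at h2
  have hTn : (T : Subgroup H).Normal := by
    refine ⟨fun x hx g => ?_⟩
    have h1 : g * x * g⁻¹ ∈ Subgroup.normalizer ((T : Subgroup H) : Set H) :=
      sup_le Subgroup.le_normalizer hFN (hTFn.conj_mem x (Subgroup.mem_sup_left hx) g)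
    have hp' : IsPGroup t ((T : Subgroup H).map (MulAut.conj g : H →* H)) := T.isPGroup'.map _
    have h2 := hp'.inf_normalizer_sylow T
    have h3 : g * x * g⁻¹ ∈ (T : Subgroup H).map (MulAut.conj g : H →* H) ⊓ (T : Subgroup H) :=
      h2 ▸ ⟨⟨x, hx, rfl⟩, h1⟩
    exact h3.2
  have := Sylow.unique_of_normal T hTn
  rw [Subsingleton.elim P T]
  exact hTn

/-- The induction for Ward's theorem. -/
theorem exists_nilpotent_by_nilpotent (hA : ∀ a b : A, a * b = b * a)
    (hexp : ∀ a : A, a ^ p = 1) (hcard : Nat.card A = p ^ 2) : ∀ (n : ℕ) {G : Type u} [Group G]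
    [Finite G], Nat.card G ≤ n → Group.IsSolvable G → ∀ φ : A →* MulAut G,
    (∀ x, (∀ a, φ a x = x) → x = 1) → ∃ (N : Subgroup G) (_ : N.Normal),
      (∀ a, ∀ x ∈ N, φ a x ∈ N) ∧ Group.IsNilpotent N ∧ Group.IsNilpotent (G ⧸ N) := by
  intro n
  induction n with
  | zero => intro G _ _ hc; exact absurd hc (Nat.not_le.2 Nat.card_pos)
  | succ n ih =>
    intro G _ _ hc hsolv φ hfpf
    rcases subsingleton_or_nontrivial G with hG | hG
    · exact ⟨⊥, inferInstance, fun a x hx => by rw [Subgroup.mem_bot] at hx; simp [hx],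
        inferInstance, inferInstance⟩
    haveI := hsolv
    -- a minimal invariant normal subgroup
    obtain ⟨M, ⟨hMn, hMi, hMb⟩, hmin⟩ := (wellFounded_lt (α := Subgroup G)).has_min
      {M | M.Normal ∧ (∀ a, ∀ x ∈ M, φ a x ∈ M) ∧ M ≠ ⊥}
      ⟨⊤, inferInstance, fun _ _ _ => trivial, top_ne_bot⟩
    haveI := hMn
    have hmineq : ∀ L : Subgroup G, L.Normal → (∀ a, ∀ x ∈ L, φ a x ∈ L) → L ≤ M → L ≠ M →
        L = ⊥ := fun L h1 h2 h3 h4 =>
      by_contra fun h5 => hmin L ⟨h1, h2, h5⟩ (lt_of_le_of_ne h3 h4)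
    have hMM : ⁅M, M⁆ = ⊥ := by
      refine hmineq _ inferInstance (fun a k hk => ?_)
        (Group.IsSolvable.commutator_lt_of_ne_bot hMb).le
        (Group.IsSolvable.commutator_lt_of_ne_bot hMb).ne
      have h1 : ⁅M, M⁆.map (φ a : G →* G) ≤ ⁅M, M⁆ := by
        rw [Subgroup.map_commutator]
        have : M.map (φ a : G →* G) ≤ M := by
          rintro _ ⟨y, hy, rfl⟩
          exact hMi a y hy
        exact Subgroup.commutator_mono this this
      exact h1 ⟨k, hk, rfl⟩
    have hMab : ∀ x ∈ M, ∀ y ∈ M, x * y = y * x := fun x hx y hy => by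
      have := Subgroup.commutator_mem_commutator hx hy
      rw [hMM, Subgroup.mem_bot, commutatorElement_eq_one_iff_mul_comm] at this
      exact this
    set r := (Nat.card M).minFac with hr
    haveI : Nontrivial M := (Subgroup.nontrivial_iff_ne_bot M).2 hMb
    have hr' : r.Prime := Nat.minFac_prime Finite.one_lt_card.ne'
    haveI := Fact.mk hr'
    let Ω : Subgroup G :=
      { carrier := {x | x ∈ M ∧ x ^ r = 1}
        one_mem' := ⟨one_mem _, one_pow _⟩
        mul_mem' := fun {x y} (hx : _ ∧ _) (hy : _ ∧ _) => ⟨mul_mem hx.1 hy.1, by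
          rw [Commute.mul_pow (hMab x hx.1 y hy.1), hx.2, hy.2, one_mul]⟩
        inv_mem' := fun {x} (hx : _ ∧ _) => ⟨inv_mem hx.1, by rw [inv_pow, hx.2, inv_one]⟩ }
    have hΩ : Ω = M := by
      by_contra hne
      have hb := hmineq Ω
        ⟨fun x hx g => ⟨hMn.conj_mem x hx.1 g, by rw [conj_pow, hx.2, mul_one, mul_inv_cancel]⟩⟩
        (fun a x hx => ⟨hMi a x hx.1, by rw [← map_pow, hx.2, map_one]⟩) (fun x hx => hx.1) hne
      obtain ⟨x, hx⟩ := exists_prime_orderOf_dvd_card' (G := M) r (Nat.minFac_dvd _)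
      have : (x : G) ∈ Ω := ⟨x.2, by
        have := pow_orderOf_eq_one x
        rw [hx] at this
        exact congrArg Subtype.val this⟩
      rw [hb, Subgroup.mem_bot] at this
      have hx1 : x = 1 := Subtype.ext this
      rw [hx1, orderOf_one] at hx
      exact hr'.one_lt.ne hx
    have hexpM : ∀ x ∈ M, x ^ r = 1 := fun x hx => (hΩ.ge hx).2
    letI : CommGroup M := { (inferInstance : Group M) with
      mul_comm := fun x y => Subtype.ext (hMab x x.2 y y.2) }
    -- the faithful quotient
    set C := (MulAut.conjNormal : G →* MulAut M).ker with hC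
    have hCmem : ∀ g, g ∈ C ↔ ∀ x ∈ M, g * x = x * g := by
      intro g
      rw [hC, MonoidHom.mem_ker]
      constructor
      · intro h x hx
        have := congrArg (fun f : MulAut M => ((f ⟨x, hx⟩ : M) : G)) h
        simpa [mul_inv_eq_iff_eq_mul] using this
      · intro h
        ext x
        simp [h x x.2]
    have hMC : M ≤ C := fun x hx => (hCmem x).2 fun y hy => hMab x hx y hy
    have hCi : ∀ a, ∀ g ∈ C, φ a g ∈ C := by
      intro a g hg
      rw [hCmem] at hg ⊢
      intro x hx
      have : φ a (φ a⁻¹ x) = x := by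
        rw [← MulAut.mul_apply, ← map_mul, mul_inv_cancel, map_one, MulAut.one_apply]
      rw [← this, ← map_mul, ← map_mul, hg _ (hMi a⁻¹ x hx)]
    obtain ⟨φH, hφH⟩ := exists_quotient_action φ C hCi
    obtain ⟨φM, hφM⟩ := exists_quotient_action φ M hMi
    have hcardlt : ∀ L : Subgroup G, M ≤ L → Nat.card (G ⧸ L) < Nat.card G := fun L hL => by
      have h1 := Subgroup.card_eq_card_quotient_mul_card_subgroup L
      have h2 : 1 < Nat.card L :=
        lt_of_lt_of_le Finite.one_lt_card (Subgroup.card_le_of_le hL)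
      have h3 : 0 < Nat.card (G ⧸ L) := Nat.card_pos
      nlinarith
    have hfH := quotient_fpf hA hcard φ hfpf C hCi φH hφH
    obtain ⟨F, hFn', hFi, hFn, hFq⟩ := ih (G := G ⧸ C)
      (by have := hcardlt C hMC; omega) inferInstance φH hfH
    obtain ⟨N₁, hN₁n', hN₁i, hN₁n, hN₁q⟩ := ih (G := G ⧸ M)
      (by have := hcardlt M le_rfl; omega) inferInstance φM
      (quotient_fpf hA hcard φ hfpf M hMi φM hφM)
    let toEnd : MulAut M →* AddMonoid.End (Additive M) :=
      { toFun := fun f => MonoidHom.toAdditive f.toMonoidHom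
        map_one' := AddMonoidHom.ext fun _ => rfl
        map_mul' := fun _ _ => AddMonoidHom.ext fun _ => rfl }
    have htoEnd : Function.Injective toEnd := fun f g h => by
      ext x
      exact congrArg (fun k : AddMonoid.End (Additive M) =>
        ((Additive.toMul (k (Additive.ofMul x)) : M) : G)) h
    let ρ : A →* AddMonoid.End (Additive M) := toEnd.comp (restr φ M hMi)
    let S : Setup p r A (G ⧸ C) (AddMonoid.End (Additive M)) :=
      { φ := φH
        ρ := ρ
        ψ := toEnd.comp (QuotientGroup.kerLift (MulAut.conjNormal : G →* MulAut M))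
        comm := hA
        exp := hexp
        card := hcard
        fpf := hfH
        char := AddMonoidHom.ext fun v => by
          show r • v = 0
          exact congrArg Additive.ofMul
            (Subtype.ext (hexpM _ (Additive.toMul v).2) : (Additive.toMul v) ^ r = 1)
        solv := inferInstance
        inj := htoEnd.comp (QuotientGroup.kerLift_injective _)
        compat := fun a h => by
          induction h using QuotientGroup.induction_on with
          | H g =>
            rw [hφH]
            refine AddMonoidHom.ext fun v => congrArg Additive.ofMul (Subtype.ext ?_)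
            show φ a (g * (Additive.toMul v : M) * g⁻¹) =
              φ a g * φ a (Additive.toMul v : M) * (φ a g)⁻¹
            simp
        sum := by
          refine AddMonoidHom.ext fun v => ?_
          set w := (∑ a, ρ a) v with hw
          have hfix : ∀ b, ρ b w = w := by
            intro b
            have h1 : ρ b * ∑ a, ρ a = ∑ a, ρ a := by
              rw [Finset.mul_sum]
              exact Fintype.sum_equiv (Equiv.mulLeft b) _ _ fun a => (map_mul ρ b a).symm
            conv_rhs => rw [hw, ← h1]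
            rfl
          have h2 : ((Additive.toMul w : M) : G) = 1 := hfpf _ fun b =>
            congrArg (fun u => ((Additive.toMul u : M) : G)) (hfix b)
          exact congrArg Additive.ofMul (Subtype.ext h2 : (Additive.toMul w) = 1) }
    have hcore : ∀ P : Subgroup (G ⧸ C), P.Normal → (∀ a, ∀ x ∈ P, φH a x ∈ P) → IsPGroup r P →
        P = ⊥ := by
      intro P hPn hPi hP
      let ψ₀ := QuotientGroup.kerLift (MulAut.conjNormal : G →* MulAut M)
      letI : MulAction P M := MulAction.compHom M (ψ₀.comp P.subtype)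
      have hdvd : r ∣ Nat.card M := Nat.minFac_dvd _
      have hone : (1 : M) ∈ MulAction.fixedPoints P M := fun x => map_one (ψ₀ (x : G ⧸ C))
      obtain ⟨v, hv, hv1⟩ := hP.exists_fixed_point_of_prime_dvd_card_of_fixed_point M hdvd hone
      let W : Subgroup G :=
        { carrier := {w | ∃ h : w ∈ M, ∀ x ∈ P, ψ₀ x ⟨w, h⟩ = ⟨w, h⟩}
          one_mem' := ⟨one_mem _, fun x _ => map_one (ψ₀ x)⟩
          mul_mem' := fun {y z} ⟨hy, hy'⟩ ⟨hz, hz'⟩ => ⟨mul_mem hy hz, fun x hx => by
            have := map_mul (ψ₀ x) ⟨y, hy⟩ ⟨z, hz⟩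
            rw [hy' x hx, hz' x hx] at this
            exact this⟩
          inv_mem' := fun {y} ⟨hy, hy'⟩ => ⟨inv_mem hy, fun x hx => by
            have := map_inv (ψ₀ x) ⟨y, hy⟩
            rw [hy' x hx] at this
            exact this⟩ }
      have hW : W = M := by
        by_contra hne
        have hWn : W.Normal := by
          constructor
          rintro w ⟨hw, hw'⟩ g
          refine ⟨hMn.conj_mem w hw g, fun x hx => ?_⟩
          induction x using QuotientGroup.induction_on with
          | H k =>
            have h1 : ((g⁻¹ * k * g : G) : G ⧸ C) ∈ P := by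
              have := hPn.conj_mem _ hx ((g⁻¹ : G) : G ⧸ C)
              rw [show g⁻¹ * k * g = g⁻¹ * k * g⁻¹⁻¹ by rw [inv_inv]]
              exact this
            have h2 : g⁻¹ * k * g * w * (g⁻¹ * k * g)⁻¹ = w := congrArg Subtype.val (hw' _ h1)
            refine Subtype.ext ?_
            show k * (g * w * g⁻¹) * k⁻¹ = g * w * g⁻¹
            calc k * (g * w * g⁻¹) * k⁻¹ = g * (g⁻¹ * k * g * w * (g⁻¹ * k * g)⁻¹) * g⁻¹ := by
                  group
              _ = _ := by rw [h2]
        have hb := hmineq W hWn ?_ (fun w hw => hw.1) hne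
        · exact hv1 (Subtype.ext (Subgroup.mem_bot.1
            (hb ▸ (⟨v.2, fun x hx => hv ⟨x, hx⟩⟩ : (v : G) ∈ W)))).symm
        · rintro a w ⟨hw, hw'⟩
          refine ⟨hMi a w hw, fun x hx => ?_⟩
          induction x using QuotientGroup.induction_on with
          | H k =>
            have h1 : ((φ a⁻¹ k : G) : G ⧸ C) ∈ P := by rw [← hφH]; exact hPi a⁻¹ _ hx
            have h2 : φ a⁻¹ k * w * (φ a⁻¹ k)⁻¹ = w := congrArg Subtype.val (hw' _ h1)
            refine Subtype.ext ?_
            show k * φ a w * k⁻¹ = φ a w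
            have hk : φ a (φ a⁻¹ k) = k := by
              rw [← MulAut.mul_apply, ← map_mul, mul_inv_cancel, map_one, MulAut.one_apply]
            have h3 := congrArg (φ a) h2
            rw [map_mul, map_mul, map_inv (φ a), hk] at h3
            exact h3
      rw [Subgroup.eq_bot_iff_forall]
      intro x hx
      apply QuotientGroup.kerLift_injective (MulAut.conjNormal : G →* MulAut M)
      rw [map_one]
      ext w
      have hw : (w : G) ∈ W := hW.ge w.2
      obtain ⟨hwM, hw'⟩ := hw
      exact congrArg Subtype.val (hw' x hx)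
    haveI := hFn'
    have hH : Group.IsNilpotent (G ⧸ C) := nilpotent_of_faithful S hcore F hFi hFn hFq
    -- assemble
    haveI := hN₁n'
    set N₁' := N₁.comap (QuotientGroup.mk' M) with hN₁'
    refine ⟨N₁' ⊓ C, inferInstance, fun a x hx => ⟨?_, hCi a x hx.2⟩, ?_, ?_⟩
    · show ((φ a x : G) : G ⧸ M) ∈ N₁
      rw [← hφM]
      exact hN₁i a _ hx.1
    · haveI := hN₁n
      let f : (N₁' ⊓ C : Subgroup G) →* N₁ :=
        ((QuotientGroup.mk' M).comp (N₁' ⊓ C).subtype).codRestrict N₁ fun x => x.2.1
      refine Subgroup.isNilpotent_of_ker_le_center f ?_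
      intro x hx
      have hxM : (x : G) ∈ M := (QuotientGroup.eq_one_iff _).1 (congrArg Subtype.val hx)
      rw [Subgroup.mem_center_iff]
      exact fun y => Subtype.ext ((hCmem _).1 y.2.2 x hxM)
    · haveI := hN₁q
      let f : G →* ((G ⧸ M) ⧸ N₁) × (G ⧸ C) :=
        ((QuotientGroup.mk' N₁).comp (QuotientGroup.mk' M)).prod (QuotientGroup.mk' C)
      have hker : f.ker = N₁' ⊓ C := by
        ext x
        simp [f, MonoidHom.mem_ker, Prod.ext_iff, N₁', QuotientGroup.eq_one_iff]
      haveI : Group.IsNilpotent (G ⧸ f.ker) := Subgroup.isNilpotent_of_ker_le_center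
        (QuotientGroup.kerLift f)
        (((MonoidHom.ker_eq_bot_iff _).2 (QuotientGroup.kerLift_injective f)).le.trans bot_le)
      exact Group.nilpotent_of_mulEquiv (QuotientGroup.quotientMulEquivOfEq hker)

end CfsgLib.Ward
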